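import Cfsg.Agent.H91.Universal.Coord
import Cfsg.Agent.H24.Huppert

/-!
The bound on the Frattini subgroup of the normal Sylow subgroup of a minimal non-nilpotent group.
-/

set_option autoImplicit false

namespace Cfsg.Agent.H91.Universal

open Polynomial Subgroup
open scoped commutatorElement

/-- In a finite field with `p ^ (2 * m)` elements there are at least `p ^ m` norms. -/
theorem card_norms_le {p m : ℕ} [Fact p.Prime] {K : Type*} [Field K] [Finite K]
    (hK : Nat.card K = p ^ (2 * m)) (S : AddSubgroup K) (hS : ∀ x : K, x ^ (p ^ m + 1) ∈ S) :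
    p ^ m ≤ Nat.card S := by
  have := Fintype.ofFinite K
  set N : Kˣ →* Kˣ := powMonoidHom (p ^ m + 1) with hN
  have hk : Nat.card N.ker ≤ p ^ m + 1 := by
    classical
    refine le_trans (le_of_eq ?_) (IsCyclic.card_pow_eq_one_le (α := Kˣ) (Nat.succ_pos (p ^ m)))
    rw [Nat.card_eq_fintype_card, ← Fintype.card_coe]
    exact Fintype.card_congr (Equiv.subtypeEquivRight fun x => by simp [hN, MonoidHom.mem_ker])
  have hmul : Nat.card N.range * Nat.card N.ker = p ^ m * p ^ m - 1 := by
    rw [← index_ker, index_mul_card, Nat.card_units, hK, two_mul, pow_add]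
  let f : Option N.range → S := fun o => match o with
    | none => ⟨0, S.zero_mem⟩
    | some u => ⟨((u : Kˣ) : K), by
        obtain ⟨w, hw⟩ := u.2
        rw [← hw]
        show ((w ^ (p ^ m + 1) : Kˣ) : K) ∈ S
        rw [Units.val_pow_eq_pow_val]
        exact hS _⟩
  have hf : Function.Injective f := by
    rintro (_ | u) (_ | v) h
    · rfl
    · exact absurd (congrArg Subtype.val h).symm (v : Kˣ).ne_zero
    · exact absurd (congrArg Subtype.val h) (u : Kˣ).ne_zero
    · exact congrArg some (Subtype.ext (Units.ext (congrArg Subtype.val h :)))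
  have h1 := Nat.card_le_card_of_injective f hf
  rw [Finite.card_option] at h1
  refine le_trans ?_ h1
  have hpos : 1 ≤ p ^ m := Nat.one_le_pow _ _ (Fact.out : p.Prime).pos
  have hkpos : 0 < Nat.card N.ker := Nat.card_pos
  have e : p ^ m * p ^ m - 1 = (p ^ m - 1) * (p ^ m + 1) := by
    obtain ⟨d, hd⟩ := Nat.exists_eq_add_of_le hpos
    rw [hd, show 1 + d - 1 = d by omega, show (1 + d) * (1 + d) = d * (1 + d + 1) + 1 by ring,
      Nat.add_sub_cancel]
  rw [e] at hmul
  by_contra hlt
  have : Nat.card N.range + 1 ≤ p ^ m - 1 := by omega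
  nlinarith

/-- The bound. -/
theorem card_frattini_le {p q : ℕ} [Fact p.Prime] [Fact q.Prime] {K : Type*} [Field K] [Finite K]
    [Algebra (ZMod p) K] (hK : Nat.card K = p ^ orderOf (p : ZMod q)) (hpq : p ≠ q) {ζ : K}
    (hζ : IsPrimitiveRoot ζ q) {P : Type*} [Group P] [Finite P] (hP : IsPGroup p P) (α : MulAut P)
    (π : P →* Multiplicative K) (hπs : Function.Surjective π) (hker : π.ker = frattini P)
    (hc : frattini P ≤ center P) (hfix : ∀ z ∈ frattini P, α z = z)
    (hπα : ∀ u, Multiplicative.toAdd (π (α u)) = ζ * Multiplicative.toAdd (π u)) :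
    Nat.card (frattini P) ≤
      p ^ (if orderOf (p : ZMod q) % 2 = 1 then 0 else orderOf (p : ZMod q) / 2) := by
  have hq1 := (Fact.out : q.Prime).one_lt
  have hζ1 : ζ - 1 ≠ 0 := sub_ne_zero.2 (hζ.ne_one hq1)
  have hζ0 : ζ ≠ 0 := hζ.ne_zero (Fact.out : q.Prime).ne_zero
  -- the Frattini subgroup is the derived subgroup
  let d₀ : P →* Abelianization P :=
    { toFun := fun w => (Abelianization.of w)⁻¹ * Abelianization.of (α w)
      map_one' := by simp
      map_mul' := fun w v => by simp only [map_mul, mul_inv]; exact mul_mul_mul_comm _ _ _ _ }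
  have hd₀ : Function.Surjective d₀ := by
    have hR : d₀.range.comap Abelianization.of = ⊤ := by
      refine frattini_nongenerating (eq_top_iff.2 fun u _ => ?_)
      obtain ⟨w, hw⟩ := hπs (Multiplicative.ofAdd ((ζ - 1)⁻¹ * Multiplicative.toAdd (π u)))
      have hmem : w⁻¹ * α w ∈ d₀.range.comap Abelianization.of := ⟨w, by simp [d₀]⟩
      have hk : (w⁻¹ * α w)⁻¹ * u ∈ frattini P := by
        rw [← hker, MonoidHom.mem_ker, map_mul, map_inv, inv_mul_eq_one]
        apply Multiplicative.toAdd.injective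
        rw [map_mul, map_inv, toAdd_mul, toAdd_inv, hπα, hw, toAdd_ofAdd]
        field_simp
        ring
      have := mul_mem_sup hmem hk
      rwa [mul_inv_cancel_left] at this
    intro z
    obtain ⟨u, rfl⟩ := QuotientGroup.mk_surjective z
    exact (hR ▸ mem_top u : u ∈ d₀.range.comap Abelianization.of)
  have hFD : frattini P ≤ commutator P := by
    have hle : commutator P ≤ d₀.ker := Abelianization.commutator_subset_ker d₀
    have heq : commutator P = d₀.ker := by
      refine eq_of_le_of_card_ge hle (Nat.le_of_mul_le_mul_right ?_ (Nat.pos_of_ne_zero (index_ne_zero_of_finite (H := d₀.ker))))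
      rw [card_mul_index, index_ker, MonoidHom.range_eq_top.2 hd₀, card_top]
      exact (card_mul_index (commutator P)).ge
    intro z hz
    rw [heq, MonoidHom.mem_ker]
    show (Abelianization.of z)⁻¹ * Abelianization.of (α z) = 1
    rw [hfix z hz, inv_mul_cancel]
  -- the commutator pairing
  have hcomm : ∀ u v : P, ⁅u, v⁆ ∈ center P := fun u v =>
    hc (H24.commutator_le_frattini hP (commutator_mem_commutator (mem_top u) (mem_top v)))
  set s : K → P := fun x => Function.surjInv hπs (Multiplicative.ofAdd x) with hs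
  have hπsx : ∀ x, Multiplicative.toAdd (π (s x)) = x := fun x => by
    rw [hs, Function.surjInv_eq hπs]; rfl
  have hmulr : ∀ x y z : P, ⁅x, y * z⁆ = ⁅x, y⁆ * ⁅x, z⁆ := by
    intro x y z
    calc ⁅x, y * z⁆ = x * y * x⁻¹ * (⁅x, z⁆ * y⁻¹) := by simp only [commutatorElement_def]; group
      _ = x * y * x⁻¹ * (y⁻¹ * ⁅x, z⁆) := by rw [mem_center_iff.1 (hcomm x z) y⁻¹]
      _ = ⁅x, y⁆ * ⁅x, z⁆ := by simp only [commutatorElement_def]; group
  have hmull : ∀ x y z : P, ⁅x * y, z⁆ = ⁅x, z⁆ * ⁅y, z⁆ := by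
    intro x y z
    calc ⁅x * y, z⁆ = x * ⁅y, z⁆ * (z * x⁻¹ * z⁻¹) := by simp only [commutatorElement_def]; group
      _ = ⁅y, z⁆ * x * (z * x⁻¹ * z⁻¹) := by rw [mem_center_iff.1 (hcomm y z) x]
      _ = ⁅y, z⁆ * ⁅x, z⁆ := by simp only [commutatorElement_def]; group
      _ = ⁅x, z⁆ * ⁅y, z⁆ := (mem_center_iff.1 (hcomm y z) _).symm
  let c : K → K → Additive ↥(center P) := fun x y => Additive.ofMul ⟨⁅s x, s y⁆, hcomm _ _⟩
  have hwd : ∀ u v : P, c (Multiplicative.toAdd (π u)) (Multiplicative.toAdd (π v)) =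
      Additive.ofMul ⟨⁅u, v⁆, hcomm u v⟩ := by
    intro u v
    refine congrArg Additive.ofMul (Subtype.ext ?_)
    have h1 : ∀ w : P, ∃ z ∈ center P, s (Multiplicative.toAdd (π w)) = w * z := fun w =>
      ⟨w⁻¹ * s (Multiplicative.toAdd (π w)), hc (by
        rw [← hker, MonoidHom.mem_ker, map_mul, map_inv, inv_mul_eq_one]
        exact Multiplicative.toAdd.injective (hπsx _).symm), by group⟩
    obtain ⟨z, hz, e⟩ := h1 u
    obtain ⟨z', hz', e'⟩ := h1 v
    show ⁅s _, s _⁆ = ⁅u, v⁆
    have hz1 : ∀ w : P, ⁅z, w⁆ = 1 := fun w =>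
      commutatorElement_eq_one_iff_mul_comm.2 (mem_center_iff.1 hz w).symm
    have hz2 : ⁅u, z'⁆ = 1 := commutatorElement_eq_one_iff_mul_comm.2 (mem_center_iff.1 hz' u)
    rw [e, e', hmull, hz1, mul_one, hmulr, hz2, mul_one]
  have haddr : ∀ x y z, c x (y + z) = c x y + c x z := by
    intro x y z
    conv_lhs => rw [← hπsx x, ← hπsx y, ← hπsx z, ← toAdd_mul, ← map_mul, hwd]
    exact congrArg Additive.ofMul (Subtype.ext (hmulr _ _ _))
  have haddl : ∀ x y z, c (x + y) z = c x z + c y z := by
    intro x y z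
    conv_lhs => rw [← hπsx x, ← hπsx y, ← hπsx z, ← toAdd_mul, ← map_mul, hwd]
    exact congrArg Additive.ofMul (Subtype.ext (hmull _ _ _))
  have hinv : ∀ x y, c (ζ * x) (ζ * y) = c x y := by
    intro x y
    rw [← hπsx x, ← hπsx y, ← hπα, ← hπα, hwd, hwd]
    refine congrArg Additive.ofMul (Subtype.ext ?_)
    show ⁅α (s x), α (s y)⁆ = ⁅s x, s y⁆
    rw [← map_commutatorElement]
    exact hfix _ (H24.commutator_le_frattini hP (commutator_mem_commutator (mem_top _) (mem_top _)))
  have hself : ∀ x, c x x = 0 := by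
    intro x
    exact congrArg Additive.ofMul (Subtype.ext (commutatorElement_self (s x)))
  have hinvn : ∀ (n : ℕ) y, c (ζ ^ n) y = c 1 (ζ⁻¹ ^ n * y) := by
    intro n
    induction n with
    | zero => intro y; simp
    | succ n ih =>
      intro y
      rw [show ζ ^ (n + 1) = ζ * ζ ^ n from pow_succ' ζ n]
      nth_rw 1 [show y = ζ * (ζ⁻¹ * y) by field_simp]
      rw [hinv, ih, pow_succ]
      ring_nf
  let g : K →+ Additive ↥(center P) := AddMonoidHom.mk' (c 1) fun y z => haddr 1 y z
  have hg : ∀ (f : (ZMod p)[X]) y, c (aeval ζ f) y = g (aeval ζ⁻¹ f * y) := by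
    intro f y
    induction f using Polynomial.induction_on' with
    | add f₁ f₂ h₁ h₂ => rw [map_add, map_add, add_mul, map_add, haddl, h₁, h₂]
    | monomial n k =>
      obtain ⟨k, rfl⟩ := ZMod.natCast_zmod_surjective k
      rw [aeval_monomial, aeval_monomial, map_natCast]
      let hl : K →+ Additive ↥(center P) := AddMonoidHom.mk' (fun x => c x y) fun x x' => haddl x x' y
      show hl ((k : K) * ζ ^ n) = _
      rw [← nsmul_eq_mul, map_nsmul, ← nsmul_eq_mul, smul_mul_assoc, map_nsmul]
      exact congrArg (k • ·) (hinvn n y)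
  have hgen := adjoin_surjective p q hK hζ
  have hrange : ∀ x y, c x y ∈ g.range := fun x y => by
    obtain ⟨f, rfl⟩ := hgen x
    exact ⟨_, (hg f y).symm⟩
  -- the image of the pairing bounds the derived subgroup
  have hDg : Nat.card (commutator P) ≤ Nat.card g.range := by
    set D' := (AddSubgroup.toSubgroup' g.range).map (center P).subtype with hD'
    have hle : commutator P ≤ D' := by
      rw [_root_.commutator_def, commutator_le]
      intro u _ v _
      refine ⟨⟨⁅u, v⁆, hcomm u v⟩, ?_, rfl⟩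
      have := hrange (Multiplicative.toAdd (π u)) (Multiplicative.toAdd (π v))
      rw [hwd] at this
      exact this
    refine (card_le_of_le hle).trans (le_of_eq ?_)
    rw [hD', card_map_of_injective (center P).subtype_injective]
    rfl
  refine ((card_le_of_le hFD).trans hDg).trans ?_
  split_ifs with hodd
  · -- `a` odd: the pairing vanishes
    rw [pow_zero]
    suffices hg0 : ∀ y, g y = 0 by
      have : g.range = ⊥ := (AddMonoidHom.range_eq_bot_iff).2 (AddMonoidHom.ext hg0)
      rw [this, AddSubgroup.card_bot]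
    by_cases hroot : ∀ f : (ZMod p)[X], aeval ζ f = 0 → aeval ζ⁻¹ f = 0
    · obtain ⟨k, hk⟩ := exists_pow_eq_inv p q hK hζ hroot
      set a := orderOf (p : ZMod q) with ha
      have h2 : ζ ^ (p ^ (2 * k) : ℕ) = ζ := by
        rw [two_mul, pow_add, pow_mul, hk, inv_pow, hk, inv_inv]
      have h3 : q ∣ p ^ (2 * k) - 1 := by
        refine hζ.dvd_of_pow_eq_one _ ?_
        have hp1 := Nat.one_le_pow (2 * k) p (Fact.out : p.Prime).pos
        refine mul_right_cancel₀ hζ0 ?_
        rw [← pow_succ, Nat.sub_add_cancel hp1, h2, one_mul]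
      have hak : a ∣ k :=
        ((Nat.coprime_two_right.2 (Nat.odd_iff.2 hodd))).dvd_of_dvd_mul_left ((dvd_pow_sub_one_iff _).1 h3)
      have hfix : ζ = ζ⁻¹ := by
        obtain ⟨c', hc'⟩ := (dvd_pow_sub_one_iff (p := p) (q := q) k).2 hak
        have hp1 := Nat.one_le_pow k p (Fact.out : p.Prime).pos
        rw [show p ^ k = q * c' + 1 by omega, pow_succ, pow_mul, hζ.pow_eq_one, one_pow, one_mul] at hk
        exact hk
      have hq2 : q = 2 := by
        have : q ∣ 2 := hζ.dvd_of_pow_eq_one 2 (by rw [pow_two]; nth_rw 2 [hfix]; exact mul_inv_cancel₀ hζ0)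
        exact (Nat.prime_dvd_prime_iff_eq Fact.out Nat.prime_two).1 this
      have ha1 : Nat.card K = p := by
        rw [hK]
        have : q ∣ p ^ 1 - 1 := by
          subst hq2
          rw [pow_one]
          have := ((Fact.out : p.Prime).odd_of_ne_two hpq)
          obtain ⟨w, hw⟩ := this
          exact ⟨w, by omega⟩
        have ha2 : a ∣ 1 := (dvd_pow_sub_one_iff _).1 this
        rw [Nat.dvd_one.1 ha2, pow_one]
      intro y
      have hb : Function.Bijective (algebraMap (ZMod p) K) :=
        (algebraMap (ZMod p) K).injective.bijective_of_nat_card_le (by rw [ha1, Nat.card_zmod])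
      obtain ⟨k', rfl⟩ := hb.2 y
      obtain ⟨k', rfl⟩ := ZMod.natCast_zmod_surjective k'
      rw [map_natCast, ← nsmul_one, map_nsmul]
      show k' • c 1 1 = 0
      rw [hself, smul_zero]
    · push Not at hroot
      obtain ⟨f, hf, hf'⟩ := hroot
      intro y
      have h := hg f ((aeval ζ⁻¹ f)⁻¹ * y)
      rw [hf, mul_inv_cancel_left₀ hf'] at h
      rw [← h]
      let hl : K →+ Additive ↥(center P) :=
        AddMonoidHom.mk' (fun x => c x ((aeval ζ⁻¹ f)⁻¹ * y)) fun x x' => haddl x x' _
      exact map_zero hl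
  · -- `a` even
    obtain ⟨m, hm⟩ : 2 ∣ orderOf (p : ZMod q) := by omega
    rw [hm, Nat.mul_div_cancel_left _ (by norm_num : 0 < 2)]
    rw [hm] at hK
    have hm0 : 0 < m := by
      have := orderOf_pos_of_ne (p := p) (q := q) hpq
      omega
    have hζm : ζ ^ p ^ m = ζ⁻¹ := by
      have h2 : q ∣ p ^ (2 * m) - 1 := (dvd_pow_sub_one_iff _).2 (by rw [hm])
      have hp1 := Nat.one_le_pow m p (Fact.out : p.Prime).pos
      rw [two_mul, pow_add, show p ^ m * p ^ m - 1 = (p ^ m - 1) * (p ^ m + 1) by
        obtain ⟨d, hd⟩ := Nat.exists_eq_add_of_le hp1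
        rw [hd, show 1 + d - 1 = d by omega, show (1 + d) * (1 + d) = d * (1 + d + 1) + 1 by ring,
          Nat.add_sub_cancel]] at h2
      have hn : ¬ q ∣ p ^ m - 1 := fun h => by
        have := Nat.le_of_dvd hm0 (hm ▸ (dvd_pow_sub_one_iff m).1 h)
        omega
      obtain ⟨c', hc'⟩ := ((Fact.out : q.Prime).dvd_mul.1 h2).resolve_left hn
      refine eq_inv_of_mul_eq_one_left ?_
      rw [← pow_succ, hc', pow_mul, hζ.pow_eq_one, one_pow]
    have hkerS : ∀ x : K, x ^ (p ^ m + 1) ∈ g.ker := by
      intro x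
      obtain ⟨f, rfl⟩ := hgen x
      rw [AddMonoidHom.mem_ker]
      have h : aeval ζ⁻¹ f = (aeval ζ f) ^ p ^ m := by
        rw [← hζm]
        induction f using Polynomial.induction_on' with
        | add f₁ f₂ h₁ h₂ =>
          haveI : CharP K p := charP_of_injective_algebraMap (algebraMap (ZMod p) K).injective p
          rw [map_add, map_add, add_pow_char_pow, h₁, h₂]
        | monomial n k =>
          rw [aeval_monomial, aeval_monomial, mul_pow, ← map_pow, ZMod.pow_card_pow, ← pow_mul,
            ← pow_mul, mul_comm n]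
      rw [pow_succ, ← h, ← hg, hself]
    have hle := card_norms_le hK g.ker hkerS
    have hmul : Nat.card g.range * Nat.card g.ker = p ^ m * p ^ m := by
      rw [← AddSubgroup.index_ker, AddSubgroup.index_mul_card, hK, two_mul, pow_add]
    by_contra hlt
    rw [not_le] at hlt
    exact absurd hmul.symm (Nat.ne_of_lt (Nat.mul_lt_mul_of_lt_of_le hlt hle Nat.card_pos))

end Cfsg.Agent.H91.Universal
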