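import Mathlib

/-!
Cyclic operator groups and the split Frobenius-type group of a root of unity.
-/

set_option autoImplicit false

namespace Cfsg.Agent.H91.Universal

/-- The homomorphism from a cyclic group given by an element of suitable order. -/
def cycHom {G : Type*} [Monoid G] (x : G) (N : ℕ) [NeZero N] (hx : x ^ N = 1) :
    Multiplicative (ZMod N) →* G where
  toFun i := x ^ (Multiplicative.toAdd i).val
  map_one' := by simp
  map_mul' i j := by rw [← pow_add, toAdd_mul, ZMod.val_add, ← pow_eq_pow_mod _ hx]

theorem cycHom_gen {G : Type*} [Monoid G] (x : G) (N : ℕ) [NeZero N] (hx : x ^ N = 1) (hN : 1 < N) :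
    cycHom x N hx (Multiplicative.ofAdd 1) = x := by
  haveI : Fact (1 < N) := ⟨hN⟩
  simp [cycHom, ZMod.val_one]

variable {K : Type*} [Field K] {q : ℕ} {ζ : K}

/-- Multiplication by a root of unity, as an automorphism. -/
noncomputable def mulAut (ζ : Kˣ) : MulAut (Multiplicative K) :=
  AddEquiv.toMultiplicative
    { toFun := fun v => (ζ : K) * v
      invFun := fun v => ((ζ⁻¹ : Kˣ) : K) * v
      left_inv := fun v => by simp
      right_inv := fun v => by simp
      map_add' := fun v w => mul_add _ v w }

theorem mulAut_pow_apply (ζ : Kˣ) (n : ℕ) (v : Multiplicative K) :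
    Multiplicative.toAdd ((mulAut ζ ^ n) v) = (ζ : K) ^ n * Multiplicative.toAdd v := by
  induction n with
  | zero => simp
  | succ n ih =>
    rw [pow_succ', MulAut.mul_apply, pow_succ', mul_assoc, ← ih]
    rfl

theorem mulAut_pow_eq_one (ζ : Kˣ) {n : ℕ} (h : (ζ : K) ^ n = 1) : mulAut ζ ^ n = 1 :=
  MulEquiv.ext fun v => Multiplicative.toAdd.injective (by rw [mulAut_pow_apply, h, one_mul]; rfl)

/-- The split extension of the additive group of `K` by a cyclic group acting through `ζ`. -/
abbrev BGrp (ζ : Kˣ) (N : ℕ) [NeZero N] (h : (ζ : K) ^ N = 1) : Type _ :=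
  Multiplicative K ⋊[cycHom (mulAut ζ) N (mulAut_pow_eq_one ζ h)] Multiplicative (ZMod N)

instance {N G : Type*} [Group N] [Group G] [Finite N] [Finite G] (φ : G →* MulAut N) :
    Finite (N ⋊[φ] G) := Finite.of_equiv _ SemidirectProduct.equivProd.symm

end Cfsg.Agent.H91.Universal
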