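import Mathlib

/-!
The field generated by a primitive `q`-th root of unity in characteristic `p` and the irreducible
modules of an operator of order `q`.
-/

set_option autoImplicit false

namespace Cfsg.Agent.H91.Universal

open Polynomial

/-- `q` divides `p ^ n - 1` exactly when the order of `p` modulo `q` divides `n`. -/
theorem dvd_pow_sub_one_iff {p q : ℕ} [Fact p.Prime] (n : ℕ) :
    q ∣ p ^ n - 1 ↔ orderOf (p : ZMod q) ∣ n := by
  rw [orderOf_dvd_iff_pow_eq_one, ← Nat.cast_pow, ← Nat.cast_one (R := ZMod q), eq_comm,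
    ZMod.natCast_eq_natCast_iff, Nat.modEq_iff_dvd' (Nat.one_le_pow _ _ (Fact.out : p.Prime).pos)]

theorem orderOf_pos_of_ne {p q : ℕ} [Fact p.Prime] [Fact q.Prime] (hpq : p ≠ q) :
    0 < orderOf (p : ZMod q) := by
  refine Nat.pos_of_ne_zero fun h => ?_
  have hne : (p : ZMod q) ≠ 0 := fun h0 => hpq
    ((Nat.prime_dvd_prime_iff_eq Fact.out Fact.out).1 ((ZMod.natCast_eq_zero_iff _ _).1 h0)).symm
  exact (orderOf_eq_zero_iff.1 h) (isOfFinOrder_iff_pow_eq_one.2
    ⟨q - 1, Nat.sub_pos_of_lt (Fact.out : q.Prime).one_lt, ZMod.pow_card_sub_one_eq_one hne⟩)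

/-- `f(x) ^ (p ^ n) = f(x)` as soon as `x ^ (p ^ n) = x`. -/
theorem aeval_pow_char_pow {p : ℕ} [Fact p.Prime] {A : Type*} [CommRing A] [Algebra (ZMod p) A]
    [Nontrivial A] (n : ℕ) {x : A} (hx : x ^ p ^ n = x) (f : (ZMod p)[X]) :
    (aeval x f) ^ p ^ n = aeval x f := by
  haveI : CharP A p := charP_of_injective_algebraMap (algebraMap (ZMod p) A).injective p
  induction f using Polynomial.induction_on' with
  | add f g hf hg => rw [map_add, add_pow_char_pow, hf, hg]
  | monomial m c =>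
    rw [aeval_monomial, mul_pow, ← map_pow, ← pow_mul, mul_comm m, pow_mul, hx, ZMod.pow_card_pow]

variable (p q : ℕ) [Fact p.Prime] [Fact q.Prime]

/-- A finite domain generated over the prime field by an element of order `q` has `p ^ a` elements. -/
theorem card_of_generated {A : Type*} [CommRing A] [IsDomain A] [Algebra (ZMod p) A] [Finite A]
    {τ : A} (hτ : τ ^ q = 1) (hτ1 : τ ≠ 1) (hgen : Function.Surjective (aeval (R := ZMod p) τ)) :
    Nat.card A = p ^ orderOf (p : ZMod q) := by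
  letI : Field A := (Finite.isField_of_domain A).toField
  have := Fintype.ofFinite A
  obtain ⟨n, hn⟩ : ∃ n, Nat.card A = p ^ n :=
    ⟨Module.finrank (ZMod p) A, by
      rw [Module.natCard_eq_pow_finrank (K := ZMod p) (V := A), Nat.card_zmod]⟩
  have ho : orderOf τ = q := orderOf_eq_prime hτ hτ1
  have h0 : τ ≠ 0 := fun h => by
    rw [h, zero_pow (Fact.out : q.Prime).ne_zero] at hτ; exact zero_ne_one hτ
  have h1 : q ∣ p ^ n - 1 := by
    rw [← hn, ← ho, Nat.card_eq_fintype_card]
    exact orderOf_dvd_of_pow_eq_one (FiniteField.pow_card_sub_one_eq_one τ h0)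
  rw [hn]
  refine le_antisymm ?_ ?_
  · rw [← hn]
    set a := orderOf (p : ZMod q) with ha
    have hτa : τ ^ p ^ a = τ := by
      obtain ⟨k, hk⟩ := (dvd_pow_sub_one_iff (p := p) (q := q) a).2 dvd_rfl
      rw [show p ^ a = q * k + 1 by
        have := Nat.one_le_pow a p (Fact.out : p.Prime).pos; omega, pow_succ, pow_mul, hτ, one_pow,
        one_mul]
    have ha0 : a ≠ 0 := by
      intro h
      rw [ha, orderOf_eq_zero_iff] at h
      refine h (isOfFinOrder_iff_pow_eq_one.2 ⟨n, Nat.pos_of_ne_zero fun hn0 => ?_, ?_⟩)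
      · rw [hn0, pow_zero] at hn
        exact (Finite.one_lt_card (α := A)).ne' hn
      · exact orderOf_dvd_iff_pow_eq_one.1 ((dvd_pow_sub_one_iff n).1 h1)
    have hall : ∀ x : A, x ^ p ^ a = x := fun x => by
      obtain ⟨f, rfl⟩ := hgen x
      exact aeval_pow_char_pow a hτa f
    have hp1 : 1 < p ^ a := Nat.one_lt_pow ha0 (Fact.out : p.Prime).one_lt
    have hP : (X ^ p ^ a - X : A[X]) ≠ 0 := FiniteField.X_pow_card_sub_X_ne_zero A hp1
    have := card_le_degree_of_subset_roots (R := A) (p := X ^ p ^ a - X) (Z := Finset.univ)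
      fun x _ => by
        simp_rw [mem_roots', IsRoot, eval_sub, eval_pow, eval_X]
        exact ⟨hP, by rw [hall, sub_self]⟩
    rw [Finset.card_univ, FiniteField.X_pow_card_sub_X_natDegree_eq A hp1] at this
    rwa [Nat.card_eq_fintype_card]
  · refine Nat.pow_le_pow_right (Fact.out : p.Prime).pos (Nat.le_of_dvd ?_ ((dvd_pow_sub_one_iff n).1 h1))
    refine Nat.pos_of_ne_zero fun hn0 => ?_
    rw [hn0, pow_zero] at hn
    exact (Finite.one_lt_card (α := A)).ne' hn

/-- In a field with `p ^ a` elements an element of order `q` generates over the prime field. -/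
theorem adjoin_surjective {K : Type*} [Field K] [Finite K] [Algebra (ZMod p) K]
    (hK : Nat.card K = p ^ orderOf (p : ZMod q)) {ζ : K} (hζ : IsPrimitiveRoot ζ q) :
    Function.Surjective (aeval (R := ZMod p) ζ) := by
  set F := (aeval (R := ZMod p) ζ).range with hF
  let τ : F := ⟨ζ, ⟨X, aeval_X ζ⟩⟩
  have h := card_of_generated p q (A := F) (τ := τ) (Subtype.ext hζ.pow_eq_one)
    (fun h => hζ.ne_one (Fact.out : q.Prime).one_lt (congrArg Subtype.val h)) fun x => by
      obtain ⟨f, hf⟩ := x.2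
      refine ⟨f, Subtype.ext ?_⟩
      rw [← hf, ← Subalgebra.coe_val, ← Polynomial.aeval_algHom_apply]
      rfl
  intro x
  have := Fintype.ofFinite K
  have hb : Function.Bijective (Subtype.val : F → K) :=
    Subtype.val_injective.bijective_of_nat_card_le (le_of_eq (hK.trans h.symm))
  obtain ⟨⟨_, f, rfl⟩, rfl⟩ := hb.2 x
  exact ⟨f, rfl⟩

/-- An irreducible module of an operator of order `q` is the field, the operator a root of unity. -/
theorem exists_coord {K : Type*} [Field K] [Finite K] [Algebra (ZMod p) K]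
    (hK : Nat.card K = p ^ orderOf (p : ZMod q)) {ζ : K} (hζ : IsPrimitiveRoot ζ q)
    {V : Type*} [AddCommGroup V] [Module (ZMod p) V] [Finite V] [Nontrivial V]
    (T : Module.End (ZMod p) V) (hT : T ^ q = 1) (hT1 : T ≠ 1)
    (hirr : ∀ W : Submodule (ZMod p) V, (∀ w ∈ W, T w ∈ W) → W = ⊥ ∨ W = ⊤) :
    ∃ (j : ℕ) (e : V ≃+ K), ¬ q ∣ j ∧ ∀ v, e (T v) = ζ ^ j * e v := by
  obtain ⟨v, hv⟩ := exists_ne (0 : V)
  have hcomm : ∀ (f : (ZMod p)[X]) w, T (aeval T f w) = aeval T f (T w) := by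
    intro f w
    show (T * aeval T f) w = (aeval T f * T) w
    rw [show T * aeval T f = aeval T (X * f) by rw [map_mul, aeval_X],
      show aeval T f * T = aeval T (f * X) by rw [map_mul, aeval_X], mul_comm]
  let φ : (ZMod p)[X] →+ V :=
    { toFun := fun f => aeval T f v
      map_zero' := by simp
      map_add' := fun f g => by simp }
  let I : Ideal (ZMod p)[X] :=
    { carrier := {f | aeval T f v = 0}
      zero_mem' := by simp
      add_mem' := fun {f g} hf hg => by simp_all
      smul_mem' := fun c f hf => by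
        simp only [Set.mem_setOf_eq, smul_eq_mul] at hf ⊢
        rw [map_mul, Module.End.mul_apply, hf, map_zero] }
  have hI : ∀ f, f ∈ I ↔ aeval T f v = 0 := fun f => Iff.rfl
  haveI hprime : I.IsPrime := by
    refine ⟨fun h => hv ?_, fun {f g} hfg => or_iff_not_imp_right.2 fun hg => ?_⟩
    · simpa using (hI 1).1 (h ▸ Submodule.mem_top)
    · set W := LinearMap.ker (aeval T f) with hW
      rcases hirr W (fun w hw => LinearMap.mem_ker.2 (by
        rw [← hcomm, LinearMap.mem_ker.1 hw, map_zero])) with h | h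
      · exact absurd ((Submodule.eq_bot_iff W).1 h _ (LinearMap.mem_ker.2 (by
          rw [← Module.End.mul_apply, ← map_mul]; exact hfg))) hg
      · exact (LinearMap.mem_ker.1 (h ▸ Submodule.mem_top : v ∈ W) : _)
  let ψ₀ : ((ZMod p)[X] ⧸ I.toAddSubgroup) →+ V := QuotientAddGroup.lift I.toAddSubgroup φ fun f hf => hf
  have hinj₀ : Function.Injective ψ₀ := by
    refine (injective_iff_map_eq_zero ψ₀).2 fun z hz => ?_
    induction z using QuotientAddGroup.induction_on with
    | H f => exact (QuotientAddGroup.eq_zero_iff f).2 hz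
  let A := (ZMod p)[X] ⧸ I
  let ψ : A →+ V := ψ₀
  have hinj : Function.Injective ψ := hinj₀
  have hmk : ∀ f, ψ (Ideal.Quotient.mk I f) = aeval T f v := fun f => rfl
  have hsurj : Function.Surjective ψ := by
    intro w
    let W : Submodule (ZMod p) V :=
      { carrier := {w | ∃ f : (ZMod p)[X], aeval T f v = w}
        zero_mem' := ⟨0, by simp⟩
        add_mem' := by rintro _ _ ⟨f, rfl⟩ ⟨g, rfl⟩; exact ⟨f + g, by simp⟩
        smul_mem' := by rintro c _ ⟨f, rfl⟩; exact ⟨c • f, by simp⟩ }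
    rcases hirr W (by
      rintro _ ⟨f, rfl⟩
      exact ⟨X * f, by rw [map_mul, aeval_X]; rfl⟩) with h | h
    · exact absurd ((Submodule.eq_bot_iff W).1 h v ⟨1, by simp⟩) hv
    · obtain ⟨f, hf⟩ := (h ▸ Submodule.mem_top : w ∈ W)
      exact ⟨Ideal.Quotient.mk I f, hf⟩
  haveI : Finite A := Finite.of_injective ψ hinj
  haveI : IsDomain A := Ideal.Quotient.isDomain I
  let τ : A := Ideal.Quotient.mk I X
  have hτmul : ∀ z : A, ψ (τ * z) = T (ψ z) := by
    intro z
    obtain ⟨f, rfl⟩ := Ideal.Quotient.mk_surjective z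
    rw [← map_mul, hmk, hmk, map_mul, aeval_X]
    rfl
  have hτ : τ ^ q = 1 := by
    apply hinj
    rw [← map_pow, ← map_one (Ideal.Quotient.mk I), hmk, hmk, map_pow, aeval_X, hT, map_one]
  have hτ1 : τ ≠ 1 := by
    intro h
    apply hT1
    ext w
    obtain ⟨z, rfl⟩ := hsurj w
    rw [← hτmul, h, one_mul]
    rfl
  have hgen : Function.Surjective (aeval (R := ZMod p) τ) := by
    intro z
    obtain ⟨f, rfl⟩ := Ideal.Quotient.mk_surjective z
    refine ⟨f, ?_⟩
    show aeval (Ideal.Quotient.mkₐ (ZMod p) I X) f = _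
    rw [Polynomial.aeval_algHom_apply, aeval_X_left_apply]
    rfl
  have hA := card_of_generated p q hτ hτ1 hgen
  have := Fintype.ofFinite A
  have := Fintype.ofFinite K
  letI : Field A := (Finite.isField_of_domain A).toField
  let i : A ≃ₐ[ZMod p] K := FiniteField.algEquivOfCardEq p
    (by rw [← Nat.card_eq_fintype_card, ← Nat.card_eq_fintype_card, hA, hK])
  obtain ⟨j, -, hj⟩ := hζ.eq_pow_of_pow_eq_one (ξ := i τ) (by rw [← map_pow, hτ, map_one])
  refine ⟨j, (AddEquiv.ofBijective ψ ⟨hinj, hsurj⟩).symm.trans i.toAddEquiv, fun hd => ?_, fun w => ?_⟩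
  · apply hτ1
    apply i.injective
    rw [map_one, ← hj]
    obtain ⟨c, rfl⟩ := hd
    rw [pow_mul, hζ.pow_eq_one, one_pow]
  · obtain ⟨z, rfl⟩ := hsurj w
    simp only [AddEquiv.trans_apply]
    rw [show (AddEquiv.ofBijective ψ ⟨hinj, hsurj⟩).symm (T (ψ z)) = τ * z by
      rw [AddEquiv.symm_apply_eq]; exact (hτmul z).symm,
      show (AddEquiv.ofBijective ψ ⟨hinj, hsurj⟩).symm (ψ z) = z from
        (AddEquiv.ofBijective ψ ⟨hinj, hsurj⟩).symm_apply_apply z]
    show i (τ * z) = _
    rw [map_mul, ← hj]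
    rfl

/-- Inverting the root of unity on polynomials: the exponent is a power of `p`. -/
theorem exists_pow_eq_inv {K : Type*} [Field K] [Finite K] [Algebra (ZMod p) K]
    (hK : Nat.card K = p ^ orderOf (p : ZMod q)) {ζ : K} (hζ : IsPrimitiveRoot ζ q)
    (hroot : ∀ f : (ZMod p)[X], aeval ζ f = 0 → aeval ζ⁻¹ f = 0) :
    ∃ k : ℕ, ζ ^ p ^ k = ζ⁻¹ := by
  have hs := adjoin_surjective p q hK hζ
  let σ : K →+* K := (aeval (R := ZMod p) ζ).toRingHom.liftOfRightInverse (Function.surjInv hs)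
    (Function.rightInverse_surjInv hs)
    ⟨(aeval (R := ZMod p) ζ⁻¹).toRingHom, fun f hf => hroot f hf⟩
  have hσ : σ ζ = ζ⁻¹ := by
    have h := RingHom.liftOfRightInverse_comp_apply (aeval (R := ZMod p) ζ).toRingHom (Function.surjInv hs)
      (Function.rightInverse_surjInv hs)
      ⟨(aeval (R := ZMod p) ζ⁻¹).toRingHom, fun f hf => hroot f hf⟩ X
    simpa [σ] using h
  let σ' : K →ₐ[ZMod p] K :=
    { σ with commutes' := fun r => RingHom.congr_fun (RingHom.ext_zmod (σ.comp (algebraMap _ K)) _) r }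
  obtain ⟨k, hk⟩ := (FiniteField.bijective_frobeniusAlgHom_pow (ZMod p) K).2 σ'
  refine ⟨k.1, ?_⟩
  have h := DFunLike.congr_fun hk ζ
  simp only [AlgHom.coe_pow, FiniteField.coe_frobeniusAlgHom, pow_iterate, ZMod.card] at h
  rw [← hσ]
  exact h

/-- The coordinates, for an additive map. -/
theorem exists_coord_hom {K : Type*} [Field K] [Finite K] [Algebra (ZMod p) K]
    (hK : Nat.card K = p ^ orderOf (p : ZMod q)) {ζ : K} (hζ : IsPrimitiveRoot ζ q)
    {V : Type*} [AddCommGroup V] [Module (ZMod p) V] [Finite V] [Nontrivial V] (T : V →+ V)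
    (hT : ∀ v, T^[q] v = v) (hT1 : ∃ v, T v ≠ v)
    (hirr : ∀ S : AddSubgroup V, (∀ w ∈ S, T w ∈ S) → S = ⊥ ∨ S = ⊤) :
    ∃ (j : ℕ) (e : V ≃+ K), ¬ q ∣ j ∧ ∀ v, e (T v) = ζ ^ j * e v := by
  refine exists_coord p q hK hζ (T.toZModLinearMap p) (LinearMap.ext fun v => ?_) (fun h => ?_)
    fun W hW => ?_
  · rw [Module.End.pow_apply]
    exact hT v
  · obtain ⟨v, hv⟩ := hT1
    exact hv (LinearMap.congr_fun h v)
  · rcases hirr W.toAddSubgroup hW with h | h
    · exact Or.inl ((Submodule.eq_bot_iff W).2 fun w hw =>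
        AddSubgroup.mem_bot.1 (h ▸ (show w ∈ W.toAddSubgroup from hw)))
    · exact Or.inr (eq_top_iff.2 fun w _ =>
        (show w ∈ W.toAddSubgroup from h ▸ AddSubgroup.mem_top w))

end Cfsg.Agent.H91.Universal
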