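import Cfsg.Agent.H91.Universal.Structure
import Cfsg.Agent.H59.PSolvable

/-!
Heisenberg examples of minimal non-`p`-nilpotent groups.
-/

set_option autoImplicit false
set_option maxHeartbeats 1000000

namespace Cfsg.Agent.H91.Universal

open Subgroup Polynomial
open scoped commutatorElement

/-- The central extension of `V` by `Z` with bilinear cocycle `β`. -/
@[ext] structure Heis {V Z : Type*} [AddCommGroup V] [AddCommGroup Z] (β : V →+ V →+ Z) where
  x : V
  z : Z

namespace Heis

variable {V Z : Type*} [AddCommGroup V] [AddCommGroup Z] {β : V →+ V →+ Z}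

instance : Mul (Heis β) := ⟨fun a b => ⟨a.x + b.x, a.z + b.z + β a.x b.x⟩⟩
instance : One (Heis β) := ⟨⟨0, 0⟩⟩
instance : Inv (Heis β) := ⟨fun a => ⟨-a.x, -a.z + β a.x a.x⟩⟩

@[simp] theorem mul_x (a b : Heis β) : (a * b).x = a.x + b.x := rfl
@[simp] theorem mul_z (a b : Heis β) : (a * b).z = a.z + b.z + β a.x b.x := rfl
@[simp] theorem one_x : (1 : Heis β).x = 0 := rfl
@[simp] theorem one_z : (1 : Heis β).z = 0 := rfl
@[simp] theorem inv_x (a : Heis β) : a⁻¹.x = -a.x := rfl
@[simp] theorem inv_z (a : Heis β) : a⁻¹.z = -a.z + β a.x a.x := rfl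

instance : Group (Heis β) :=
  Group.ofLeftAxioms
    (fun a b c => by ext <;> simp <;> abel)
    (fun a => by ext <;> simp)
    (fun a => by ext <;> simp)

def equivProd : Heis β ≃ V × Z where
  toFun a := (a.x, a.z)
  invFun a := ⟨a.1, a.2⟩
  left_inv _ := rfl
  right_inv _ := rfl

instance [Finite V] [Finite Z] : Finite (Heis β) := Finite.of_equiv _ equivProd.symm

/-- The automorphism induced by an isometry of the cocycle. -/
def aut (T : V ≃+ V) (hT : ∀ u v, β (T u) (T v) = β u v) : MulAut (Heis β) where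
  toFun a := ⟨T a.x, a.z⟩
  invFun a := ⟨T.symm a.x, a.z⟩
  left_inv a := by ext <;> simp
  right_inv a := by ext <;> simp
  map_mul' a b := by ext <;> simp [hT]

theorem aut_pow_apply (T : V ≃+ V) (hT : ∀ u v, β (T u) (T v) = β u v) (n : ℕ) (a : Heis β) :
    (aut T hT ^ n) a = ⟨T^[n] a.x, a.z⟩ := by
  induction n with
  | zero => rfl
  | succ n ih => rw [pow_succ', MulAut.mul_apply, ih, Function.iterate_succ_apply']; rfl

end Heis

variable {p q : ℕ} [Fact p.Prime] [Fact q.Prime] {K : Type} [Field K] [Finite K] [Algebra (ZMod p) K]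

/-- Multiplication by a unit, additively. -/
noncomputable def mulEquiv' (ζ : Kˣ) : K ≃+ K where
  toFun v := (ζ : K) * v
  invFun v := ((ζ⁻¹ : Kˣ) : K) * v
  left_inv v := by simp
  right_inv v := by simp
  map_add' v w := mul_add _ v w

theorem mulEquiv'_iterate (ζ : Kˣ) (n : ℕ) (v : K) :
    (mulEquiv' ζ)^[n] v = (ζ : K) ^ n * v := by
  induction n with
  | zero => simp
  | succ n ih =>
    rw [Function.iterate_succ_apply', ih, pow_succ', mul_assoc]
    rfl

/-- A Heisenberg group extended by a cyclic group is minimal non-`p`-nilpotent. -/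
theorem isSch_heis (hK : Nat.card K = p ^ orderOf (p : ZMod q)) (hpq : p ≠ q) (ζ : Kˣ)
    (hζ : IsPrimitiveRoot (ζ : K) q) {Z : Type} [AddCommGroup Z] [Finite Z] {k : ℕ}
    (hZ : Nat.card Z = p ^ k) (β : K →+ K →+ Z) (hβ : ∀ u v, β ((ζ : K) * u) ((ζ : K) * v) = β u v)
    (hsurj : ∀ z, ∃ u v, β u v - β v u = z) {r : ℕ} (hr : 1 ≤ r) [NeZero (q ^ r)]
    (hN : Heis.aut (β := β) (mulEquiv' ζ) hβ ^ q ^ r = 1) :
    IsSch p (Heis β ⋊[cycHom (Heis.aut (β := β) (mulEquiv' ζ) hβ) (q ^ r) hN] Multiplicative (ZMod (q ^ r))) ∧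
    Nat.card (Heis β ⋊[cycHom (Heis.aut (β := β) (mulEquiv' ζ) hβ) (q ^ r) hN] Multiplicative (ZMod (q ^ r))) =
      p ^ (orderOf (p : ZMod q) + k) * q ^ r := by
  set α := Heis.aut (β := β) (mulEquiv' ζ) hβ with hα
  set φ := cycHom α (q ^ r) hN with hφ
  have hq1 : 1 < q := (Fact.out : q.Prime).one_lt
  have hN1 : 1 < q ^ r := Nat.one_lt_pow (by omega) hq1
  have hPcard : Nat.card (Heis β) = p ^ (orderOf (p : ZMod q) + k) := by
    rw [Nat.card_congr Heis.equivProd, Nat.card_prod, hK, hZ, pow_add]
  have hPp : IsPGroup p (Heis β) := IsPGroup.of_card hPcard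
  have hcard : Nat.card (Heis β ⋊[φ] Multiplicative (ZMod (q ^ r))) =
      p ^ (orderOf (p : ZMod q) + k) * q ^ r := by
    rw [Nat.card_congr SemidirectProduct.equivProd, Nat.card_prod, hPcard,
      Nat.card_congr Multiplicative.toAdd, Nat.card_zmod]
  set c₁ : Multiplicative (ZMod (q ^ r)) := Multiplicative.ofAdd 1 with hc₁
  have hφc : φ c₁ = α := cycHom_gen α _ hN hN1
  have hαq : α ^ q = 1 := MulEquiv.ext fun w => by
    rw [hα, Heis.aut_pow_apply (mulEquiv' ζ) hβ q w, mulEquiv'_iterate, hζ.pow_eq_one, one_mul]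
    rfl
  have hφker : ∀ i : Multiplicative (ZMod (q ^ r)), q ∣ (Multiplicative.toAdd i).val → φ i = 1 := by
    rintro i ⟨c, hc⟩
    show α ^ (Multiplicative.toAdd i).val = 1
    rw [hc, pow_mul, hαq, one_pow]
  refine ⟨⟨fun hnpc => ?_, fun H hH => ?_⟩, hcard⟩
  · -- no normal complement
    have hco : ∀ i : Multiplicative (ZMod (q ^ r)),
        (SemidirectProduct.inr i : Heis β ⋊[φ] Multiplicative (ZMod (q ^ r))) ∈ Cfsg.pResidual p _ := by
      intro i
      refine H22.mem_pResidual_of_coprime (Nat.Coprime.coprime_dvd_left ?_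
        (((Nat.coprime_primes Fact.out Fact.out).2 hpq.symm).pow_left r))
      refine (orderOf_map_dvd SemidirectProduct.inr i).trans ((orderOf_dvd_natCard i).trans ?_)
      rw [Nat.card_congr Multiplicative.toAdd, Nat.card_zmod]
    haveI := H22.pResidual_normal (p := p) (G := Heis β ⋊[φ] Multiplicative (ZMod (q ^ r)))
    set w : Heis β := α ⟨1, 0⟩ * (⟨1, 0⟩ : Heis β)⁻¹ with hw
    have hw1 : w ≠ 1 := fun h => by
      have := congrArg Heis.x h
      simp [hw, hα, Heis.aut, mulEquiv'] at this
      exact hζ.ne_one hq1 (add_neg_eq_zero.1 this)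
    have hmem : (SemidirectProduct.inl w : Heis β ⋊[φ] Multiplicative (ZMod (q ^ r))) ∈
        Cfsg.pResidual p _ := by
      rw [hw, map_mul, map_inv, ← hφc, SemidirectProduct.inl_aut]
      have h2 := Subgroup.Normal.conj_mem this _ (inv_mem (hco c₁)) (SemidirectProduct.inl ⟨1, 0⟩)
      have h3 := mul_mem (hco c₁) h2
      simpa [mul_assoc] using h3
    obtain ⟨n, hn⟩ := IsPGroup.iff_orderOf.1 hPp w
    have hdvd := orderOf_dvd_natCard (Cfsg.pResidual p _) hmem
    rw [orderOf_injective _ SemidirectProduct.inl_injective, hn] at hdvd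
    rcases Nat.eq_zero_or_pos n with h0 | hpos
    · exact hw1 (orderOf_eq_one_iff.1 (by rw [hn, h0, pow_zero]))
    · exact H22.hasNormalPComplement_iff.1 hnpc ((dvd_pow_self p hpos.ne').trans hdvd)
  -- proper subgroups
  by_cases hfull : ∃ h ∈ H, SemidirectProduct.rightHom h = c₁
  · obtain ⟨⟨u, c⟩, hu, hc⟩ := hfull
    have hc' : c = c₁ := hc
    subst hc'
    let L : AddSubgroup K :=
      { carrier := {v | ∃ w : Heis β, (SemidirectProduct.inl w : Heis β ⋊[φ] _) ∈ H ∧ w.x = v}
        zero_mem' := ⟨1, by rw [map_one]; exact one_mem H, rfl⟩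
        add_mem' := by
          rintro _ _ ⟨w, hw, rfl⟩ ⟨w', hw', rfl⟩
          exact ⟨w * w', by rw [map_mul]; exact mul_mem hw hw', rfl⟩
        neg_mem' := by
          rintro _ ⟨w, hw, rfl⟩
          exact ⟨w⁻¹, by rw [map_inv]; exact inv_mem hw, rfl⟩ }
    have hζL : ∀ v ∈ L, (ζ : K) * v ∈ L := by
      rintro _ ⟨w, hw, rfl⟩
      refine ⟨u * φ c₁ w * u⁻¹, ?_, ?_⟩
      · have : (SemidirectProduct.inl (u * φ c₁ w * u⁻¹) : Heis β ⋊[φ] _) =
            ⟨u, c₁⟩ * SemidirectProduct.inl w * (⟨u, c₁⟩ : Heis β ⋊[φ] _)⁻¹ := by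
          rw [SemidirectProduct.mk_eq_inl_mul_inr, map_mul, map_mul, map_inv, SemidirectProduct.inl_aut, map_inv]
          group
        rw [this]
        exact mul_mem (mul_mem hu hw) (inv_mem hu)
      · rw [hφc]
        simp [hα, Heis.aut, mulEquiv']
    by_cases hL : ∃ v ∈ L, v ≠ 0
    · exfalso
      obtain ⟨v₀, hv₀, hne⟩ := hL
      have hpows : ∀ n : ℕ, (ζ : K) ^ n * v₀ ∈ L := by
        intro n
        induction n with
        | zero => simpa using hv₀
        | succ n ih => rw [pow_succ', mul_assoc]; exact hζL _ ih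
      have hall : ∀ v : K, v ∈ L := by
        intro v
        obtain ⟨f, hf⟩ := adjoin_surjective p q hK hζ (v * v₀⁻¹)
        rw [show v = aeval (ζ : K) f * v₀ by rw [hf, inv_mul_cancel_right₀ hne]]
        clear hf
        induction f using Polynomial.induction_on' with
        | add f g hf hg => rw [map_add, add_mul]; exact L.add_mem hf hg
        | monomial n c =>
          obtain ⟨c, rfl⟩ := ZMod.natCast_zmod_surjective c
          rw [aeval_monomial, map_natCast, ← nsmul_eq_mul, smul_mul_assoc]
          exact L.nsmul_mem (hpows n) c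
      apply hH
      have hz : ∀ z, (SemidirectProduct.inl (⟨0, z⟩ : Heis β) : Heis β ⋊[φ] _) ∈ H := by
        intro z
        obtain ⟨a, b, rfl⟩ := hsurj z
        obtain ⟨wa, hwa, ha⟩ := hall a
        obtain ⟨wb, hwb, hb⟩ := hall b
        have : (⟨0, β a b - β b a⟩ : Heis β) = ⁅wa, wb⁆ := by
          rw [commutatorElement_def]
          ext
          · simp
          · simp [ha, hb]; abel
        rw [this, map_commutatorElement, commutatorElement_def]
        exact mul_mem (mul_mem (mul_mem hwa hwb) (inv_mem hwa)) (inv_mem hwb)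
      have hinl : ∀ w : Heis β, (SemidirectProduct.inl w : Heis β ⋊[φ] _) ∈ H := by
        intro w
        obtain ⟨w', hw', hx⟩ := hall w.x
        rw [show w = w' * ⟨0, w.z - w'.z⟩ by
          ext
          · simp [hx]
          · simp, map_mul]
        exact mul_mem hw' (hz _)
      refine eq_top_iff.2 fun x _ => ?_
      have hinr : (SemidirectProduct.inr c₁ : Heis β ⋊[φ] _) ∈ H := by
        have := mul_mem (inv_mem (hinl u)) hu
        rwa [SemidirectProduct.mk_eq_inl_mul_inr, inv_mul_cancel_left] at this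
      rw [← SemidirectProduct.inl_left_mul_inr_right x]
      refine mul_mem (hinl _) ?_
      have hc : x.right = c₁ ^ (Multiplicative.toAdd x.right).val := by
        apply Multiplicative.toAdd.injective
        simp [hc₁, toAdd_pow]
      rw [hc, map_pow]
      exact pow_mem hinr _
    · push Not at hL
      -- abelian
      have hcent : ∀ x ∈ H, ∀ w : Heis β, (SemidirectProduct.inl w : Heis β ⋊[φ] _) ∈ H →
          x * SemidirectProduct.inl w = SemidirectProduct.inl w * x := by
        intro x _ w hw
        have hx0 : w.x = 0 := hL _ ⟨w, hw, rfl⟩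
        have hfix : ∀ i : Multiplicative (ZMod (q ^ r)), φ i w = w := fun i => by
          show (α ^ (Multiplicative.toAdd i).val) w = w
          rw [hα, Heis.aut_pow_apply (mulEquiv' ζ) hβ, mulEquiv'_iterate]
          ext
          · simp [hx0]
          · rfl
        refine SemidirectProduct.ext ?_ ?_
        · simp only [SemidirectProduct.mul_left, SemidirectProduct.left_inl, SemidirectProduct.right_inl,
            map_one, MulAut.one_apply, hfix]
          ext
          · simp [hx0]
          · simp [hx0]; abel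
        · simp
      let f : H →* Multiplicative (ZMod (q ^ r)) := SemidirectProduct.rightHom.comp H.subtype
      have hker : f.ker ≤ center H := by
        rintro ⟨x, hx⟩ hxk
        rw [mem_center_iff]
        rintro ⟨y, hy⟩
        have hxr : x.right = 1 := MonoidHom.mem_ker.1 hxk
        have hxl : x = SemidirectProduct.inl x.left :=
          SemidirectProduct.ext rfl hxr
        refine Subtype.ext ?_
        show y * x = x * y
        rw [hxl]
        exact hcent y hy _ (hxl ▸ hx)
      letI := commGroupOfCyclicCenterQuotient f hker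
      obtain ⟨Q⟩ : Nonempty (Sylow q H) := inferInstance
      haveI : (Q : Subgroup H).Normal := ⟨fun n hn g => by rwa [mul_comm g n, mul_inv_cancel_right]⟩
      obtain ⟨b, hb⟩ := Q.2.exists_card_eq
      refine H22.hasNormalPComplement_of_normal (Q : Subgroup H) (fun h => ?_) ?_
      · rw [hb] at h
        exact hpq ((Nat.prime_dvd_prime_iff_eq Fact.out Fact.out).1
          ((Fact.out : p.Prime).dvd_of_dvd_pow h))
      · have hd : (Q : Subgroup H).index ∣ p ^ (orderOf (p : ZMod q) + k) * q ^ r :=
          hcard ▸ (index_dvd_card _).trans (card_subgroup_dvd_card H)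
        have hcop : ((Q : Subgroup H).index).Coprime (q ^ r) :=
          (((Nat.Prime.coprime_iff_not_dvd Fact.out).2 Q.not_dvd_index).symm).pow_right r
        obtain ⟨j, -, hj⟩ := (Nat.dvd_prime_pow Fact.out).1 (hcop.dvd_of_dvd_mul_right hd)
        exact IsPGroup.of_card (n := j) hj
  · push Not at hfull
    -- every element of `H` acts trivially
    have htriv : ∀ x ∈ H, φ (SemidirectProduct.rightHom x) = 1 := by
      intro x hx
      by_contra hne
      set i := SemidirectProduct.rightHom x with hi
      have hv : ¬ q ∣ (Multiplicative.toAdd i).val := fun h => hne (hφker i h)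
      obtain ⟨e, -, he⟩ := Nat.exists_mul_mod_eq_one_of_coprime
        (k := q ^ r) (n := (Multiplicative.toAdd i).val)
        (((Nat.Prime.coprime_iff_not_dvd Fact.out).2 hv).symm.pow_right r) hN1
      refine hfull (x ^ e) (pow_mem hx e) ?_
      rw [map_pow, ← hi]
      apply Multiplicative.toAdd.injective
      rw [toAdd_pow, hc₁, toAdd_ofAdd, nsmul_eq_mul]
      have h1 : (((Multiplicative.toAdd i).val * e : ℕ) : ZMod (q ^ r)) = ((1 : ℕ) : ZMod (q ^ r)) :=
        (ZMod.natCast_eq_natCast_iff _ _ _).2 (show _ % _ = _ % _ by rw [he, Nat.mod_eq_of_lt hN1])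
      rw [Nat.cast_mul, ZMod.natCast_zmod_val, Nat.cast_one] at h1
      rw [mul_comm]
      exact h1
    set N := (SemidirectProduct.inr : Multiplicative (ZMod (q ^ r)) →* Heis β ⋊[φ] _).range.subgroupOf H
      with hNdef
    haveI : N.Normal := by
      constructor
      rintro ⟨n, hn⟩ hnN ⟨g, hg⟩
      obtain ⟨i, rfl⟩ := hnN
      refine ⟨i, ?_⟩
      show SemidirectProduct.inr i = g * SemidirectProduct.inr i * g⁻¹
      rw [eq_mul_inv_iff_mul_eq]
      refine SemidirectProduct.ext ?_ ?_
      · simp only [SemidirectProduct.mul_left, SemidirectProduct.left_inr, SemidirectProduct.right_inr,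
          map_one, mul_one, one_mul]
        have := htriv _ hn
        simp only [SemidirectProduct.rightHom_inr] at this
        rw [this]; rfl
      · simp [mul_comm]
    refine H22.hasNormalPComplement_of_normal N (fun h => ?_) ?_
    · have hdvd : Nat.card N ∣ q ^ r := by
        rw [← card_map_of_injective (K := N) H.subtype_injective]
        refine ((card_dvd_of_le ?_).trans (card_range_dvd (SemidirectProduct.inr : _ →* Heis β ⋊[φ] _))).trans
          (dvd_of_eq ((Nat.card_congr Multiplicative.toAdd).trans (Nat.card_zmod _)))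
        rw [hNdef, subgroupOf_map_subtype]
        exact inf_le_left
      exact hpq ((Nat.prime_dvd_prime_iff_eq Fact.out Fact.out).1
        ((Fact.out : p.Prime).dvd_of_dvd_pow (h.trans hdvd)))
    · intro y
      obtain ⟨x, rfl⟩ := QuotientGroup.mk_surjective y
      obtain ⟨n, hn⟩ := hPp (x : Heis β ⋊[φ] _).left
      refine ⟨n, ?_⟩
      rw [← QuotientGroup.mk_pow, QuotientGroup.eq_one_iff]
      show ((x ^ p ^ n : H) : Heis β ⋊[φ] _) ∈ SemidirectProduct.inr.range
      have hfix := htriv _ x.2
      have key : ∀ m : ℕ, ((x : Heis β ⋊[φ] _) ^ m).left = (x : Heis β ⋊[φ] _).left ^ m := by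
        intro m
        induction m with
        | zero => simp
        | succ m ih =>
          have hf : φ ((x : Heis β ⋊[φ] _) ^ m).right = 1 := htriv _ (pow_mem x.2 m)
          rw [pow_succ, pow_succ, SemidirectProduct.mul_left, ih, hf]
          rfl
      refine ⟨((x : Heis β ⋊[φ] _) ^ p ^ n).right, ?_⟩
      rw [SubmonoidClass.coe_pow]
      refine SemidirectProduct.ext ?_ rfl
      rw [key, hn]
      rfl

end Cfsg.Agent.H91.Universal
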