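import Cfsg.Agent.H91.Universal.Example

/-!
The universal minimal non-`p`-nilpotent group.
-/

set_option autoImplicit false

namespace Cfsg.Agent.H91.Universal

open Subgroup

universe u

variable {p q : ℕ} [Fact p.Prime] [Fact q.Prime]

/-- The exponent of the largest Frattini subgroup. -/
noncomputable def frExp (p q : ℕ) : ℕ :=
  if orderOf (p : ZMod q) % 2 = 1 then 0 else orderOf (p : ZMod q) / 2

/-- A minimal non-`p`-nilpotent group of the largest order. -/
theorem exists_large {K : Type} [Field K] [Finite K] [Algebra (ZMod p) K]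
    (hK : Nat.card K = p ^ orderOf (p : ZMod q)) (hpq : p ≠ q) (ζ : Kˣ)
    (hζ : IsPrimitiveRoot (ζ : K) q) {r : ℕ} (hr : 1 ≤ r) :
    (∃ (X : Type) (_ : Group X) (_ : Finite X), IsSch p X ∧
      Nat.card X = p ^ orderOf (p : ZMod q) * q ^ r) ∧
    ∃ (X : Type) (_ : Group X) (_ : Finite X) (k : ℕ), IsSch p X ∧
      Nat.card X = p ^ (orderOf (p : ZMod q) + k) * q ^ r ∧ p ^ frExp p q ≤ p ^ k := by
  haveI : NeZero (q ^ r) := ⟨pow_ne_zero _ (Fact.out : q.Prime).ne_zero⟩
  have hpow : ∀ {Z : Type} [AddCommGroup Z] (β : K →+ K →+ Z)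
      (hβ : ∀ u v, β ((ζ : K) * u) ((ζ : K) * v) = β u v),
      Heis.aut (β := β) (mulEquiv' ζ) hβ ^ q ^ r = 1 := fun β hβ => MulEquiv.ext fun w => by
    rw [Heis.aut_pow_apply (mulEquiv' ζ) hβ, mulEquiv'_iterate]
    obtain ⟨c, hc⟩ := dvd_pow_self q (by omega : r ≠ 0)
    rw [hc, pow_mul, hζ.pow_eq_one, one_pow, one_mul]
    rfl
  have hsmall : ∃ (X : Type) (_ : Group X) (_ : Finite X), IsSch p X ∧
      Nat.card X = p ^ orderOf (p : ZMod q) * q ^ r := by
    obtain ⟨h1, h2⟩ := isSch_heis (Z := PUnit) (k := 0) hK hpq ζ hζ (by simp) 0 (fun _ _ => rfl)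
      (fun z => ⟨0, 0, Subsingleton.elim _ _⟩) hr (hpow 0 fun _ _ => rfl)
    exact ⟨_, inferInstance, inferInstance, h1, by rw [h2, Nat.add_zero]⟩
  refine ⟨hsmall, ?_⟩
  by_cases hodd : orderOf (p : ZMod q) % 2 = 1
  · obtain ⟨X, i1, i2, h1, h2⟩ := hsmall
    exact ⟨X, i1, i2, 0, h1, by rw [h2, Nat.add_zero], by rw [frExp, if_pos hodd]⟩
  obtain ⟨m, hm⟩ : 2 ∣ orderOf (p : ZMod q) := by omega
  have hm0 : 0 < m := by
    have := orderOf_pos_of_ne (p := p) (q := q) hpq
    omega
  have hKm : Nat.card K = p ^ (2 * m) := hm ▸ hK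
  haveI hchar : CharP K p := charP_of_injective_algebraMap (algebraMap (ZMod p) K).injective p
  haveI : ExpChar K p := ExpChar.prime Fact.out
  have := Fintype.ofFinite K
  let σ : K →+* K := iterateFrobenius K p m
  have hσ : ∀ x, σ x = x ^ p ^ m := fun x => iterateFrobenius_def p m x
  have hσσ : ∀ x, σ (σ x) = x := fun x => by
    rw [hσ, hσ, ← pow_mul, ← pow_add, ← two_mul, ← hKm, Nat.card_eq_fintype_card]
    exact FiniteField.pow_card x
  let L : AddSubgroup K :=
    { carrier := {x | σ x = x}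
      zero_mem' := map_zero σ
      add_mem' := fun {a b} (ha : σ a = a) (hb : σ b = b) => show σ (a + b) = a + b by
        rw [map_add, ha, hb]
      neg_mem' := fun {a} (ha : σ a = a) => show σ (-a) = -a by rw [map_neg, ha] }
  have hp1 : 1 < p ^ m := Nat.one_lt_pow hm0.ne' (Fact.out : p.Prime).one_lt
  have hL : Nat.card L ≤ p ^ m := by
    classical
    rw [Nat.card_eq_fintype_card]
    let S : Finset K := Finset.univ.filter fun x => x ∈ L
    have h := Polynomial.card_le_degree_of_subset_roots (R := K)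
      (p := Polynomial.X ^ p ^ m - Polynomial.X) (Z := S) fun x hx => by
        simp_rw [Polynomial.mem_roots', Polynomial.IsRoot, Polynomial.eval_sub, Polynomial.eval_pow,
          Polynomial.eval_X]
        refine ⟨FiniteField.X_pow_card_sub_X_ne_zero K hp1, ?_⟩
        rw [← hσ, sub_eq_zero]
        exact (Finset.mem_filter.1 hx).2
    rw [FiniteField.X_pow_card_sub_X_natDegree_eq K hp1] at h
    exact le_of_eq_of_le (Fintype.card_subtype _) h
  obtain ⟨w₀, hw₀⟩ : ∃ w : K, w + σ w ≠ 0 := by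
    by_contra hno
    push Not at hno
    classical
    have h := Polynomial.card_le_degree_of_subset_roots (R := K)
      (p := Polynomial.X ^ p ^ m + Polynomial.X) (Z := Finset.univ) fun x _ => by
        simp_rw [Polynomial.mem_roots', Polynomial.IsRoot, Polynomial.eval_add, Polynomial.eval_pow,
          Polynomial.eval_X]
        refine ⟨fun h => ?_, ?_⟩
        · have := congrArg (fun f => Polynomial.coeff f 1) h
          simp [Polynomial.coeff_X_pow, hp1.ne] at this
        · rw [← hσ, add_comm]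
          exact hno x
    have hdeg : (Polynomial.X ^ p ^ m + Polynomial.X : Polynomial K).natDegree = p ^ m := by
      rw [Polynomial.natDegree_add_eq_left_of_natDegree_lt (by simpa using hp1), Polynomial.natDegree_X_pow]
    rw [hdeg, Finset.card_univ, ← Nat.card_eq_fintype_card, hKm, two_mul, pow_add] at h
    nlinarith
  set u := w₀ / (w₀ + σ w₀) with hu
  have hu1 : u + σ u = 1 := by
    rw [hu, map_div₀, map_add, hσσ, add_comm (σ w₀) w₀, ← add_div, div_self hw₀]
  let Z := K ⧸ L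
  let mkL : K →+ Z := QuotientAddGroup.mk' L
  let β : K →+ K →+ Z := AddMonoidHom.mk'
    (fun x => mkL.comp (AddMonoidHom.mulLeft (u * σ x)))
    (fun x y => by ext z; simp [map_add, mul_add, add_mul])
  have hβval : ∀ x y, β x y = mkL (u * σ x * y) := fun x y => rfl
  have hζm : σ (ζ : K) * ζ = 1 := by
    rw [hσ, ← pow_succ]
    have h2 : q ∣ p ^ (2 * m) - 1 := (dvd_pow_sub_one_iff _).2 (by rw [hm])
    have hp1' := hp1.le
    rw [two_mul, pow_add, show p ^ m * p ^ m - 1 = (p ^ m - 1) * (p ^ m + 1) by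
      obtain ⟨d, hd⟩ := Nat.exists_eq_add_of_le hp1'
      rw [hd, show 1 + d - 1 = d by omega, show (1 + d) * (1 + d) = d * (1 + d + 1) + 1 by ring,
        Nat.add_sub_cancel]] at h2
    have hn : ¬ q ∣ p ^ m - 1 := fun h => by
      have := Nat.le_of_dvd hm0 (hm ▸ (dvd_pow_sub_one_iff m).1 h)
      omega
    obtain ⟨c', hc'⟩ := ((Fact.out : q.Prime).dvd_mul.1 h2).resolve_left hn
    rw [hc', pow_mul, hζ.pow_eq_one, one_pow]
  have hβ : ∀ x y, β ((ζ : K) * x) ((ζ : K) * y) = β x y := by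
    intro x y
    rw [hβval, hβval, map_mul σ, show u * (σ (ζ : K) * σ x) * ((ζ : K) * y) =
      (σ (ζ : K) * ζ) * (u * σ x * y) by ring, hζm, one_mul]
  have hsurj : ∀ z, ∃ x y, β x y - β y x = z := by
    intro z
    obtain ⟨z, rfl⟩ := QuotientAddGroup.mk'_surjective L z
    refine ⟨1, z, ?_⟩
    rw [hβval, hβval, map_one, mul_one, mul_one, ← map_sub]
    refine (QuotientAddGroup.eq_iff_sub_mem).2 ?_
    show σ (u * z - u * σ z - z) = u * z - u * σ z - z
    rw [map_sub, map_sub, map_mul, map_mul, hσσ, show σ u = 1 - u by rw [← hu1]; ring]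
    ring
  obtain ⟨k, hk⟩ : ∃ k, Nat.card Z = p ^ k := by
    obtain ⟨k, -, hk⟩ := (Nat.dvd_prime_pow (Fact.out : p.Prime)).1
      (hKm ▸ AddSubgroup.index_dvd_card L : L.index ∣ p ^ (2 * m))
    exact ⟨k, hk⟩
  obtain ⟨h1, h2⟩ := isSch_heis (Z := Z) hK hpq ζ hζ hk β hβ hsurj hr (hpow β hβ)
  refine ⟨_, inferInstance, inferInstance, k, h1, h2, ?_⟩
  rw [frExp, if_neg hodd, hm, Nat.mul_div_cancel_left _ (by norm_num : 0 < 2), ← hk]
  have hmul : Nat.card Z * Nat.card L = p ^ m * p ^ m := by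
    rw [← pow_add, ← two_mul, ← hKm]
    exact (AddSubgroup.card_eq_card_quotient_mul_card_addSubgroup L).symm
  by_contra hlt
  rw [not_le] at hlt
  exact absurd hmul (Nat.ne_of_lt (Nat.mul_lt_mul_of_lt_of_le hlt hL (pow_pos (Fact.out : p.Prime).pos m)))

/-- Central extensions by `p`-groups keep normal `p`-complements. -/
theorem npc_of_central_extension {H H' : Type*} [Group H] [Finite H] [Group H'] [Finite H']
    (f : H →* H') (hf : Function.Surjective f) (hc : f.ker ≤ center H) (hkp : IsPGroup p f.ker)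
    (h : Cfsg.HasNormalPComplement p H') : Cfsg.HasNormalPComplement p H := by
  haveI := H22.pResidual_normal (p := p) (G := H')
  set U := (Cfsg.pResidual p H').comap f with hU
  haveI : U.Normal := Subgroup.Normal.comap this f
  have hNi : ∃ j, U.index = p ^ j := by
    rw [hU, index_comap_of_surjective _ hf]
    exact H22.exists_index_pResidual_eq
  have hle : f.ker ≤ U := ker_le_comap f _
  have hidx : ¬ p ∣ f.ker.relIndex U := by
    intro hd
    refine H22.hasNormalPComplement_iff.1 h (hd.trans (dvd_of_eq ?_))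
    rw [relIndex_ker]
    have : f '' (U : Set H) = (Cfsg.pResidual p H' : Set H') := by
      rw [← coe_map, hU, map_comap_eq_self_of_surjective hf]
    exact Nat.card_congr (Equiv.setCongr this)
  have hUle : U ≤ f.ker ⊔ Cfsg.pPrimeCore p H :=
    H59.le_sup_pPrimeCore_of_central hle hkp (fun z hz x _ => mem_center_iff.1 (hc hz) x) hidx
  haveI hOn := H19.pPrimeCore_normal p H
  refine H22.hasNormalPComplement_of_normal (Cfsg.pPrimeCore p H)
    ((Nat.Prime.coprime_iff_not_dvd Fact.out).1 (H19.pPrimeCore_coprime p).symm) ?_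
  obtain ⟨j, hj⟩ := hNi
  obtain ⟨i, hi⟩ := hkp.exists_card_eq
  have h2 : (Cfsg.pPrimeCore p H).index ∣ p ^ (i + j) := by
    have he := relIndex_mul_index (le_sup_right : Cfsg.pPrimeCore p H ≤ f.ker ⊔ Cfsg.pPrimeCore p H)
    rw [relIndex_sup_right] at he
    rw [← he, pow_add]
    exact Nat.mul_dvd_mul (hi ▸ relIndex_dvd_card _ _) (hj ▸ index_dvd_of_le hUle)
  obtain ⟨a, -, ha⟩ := (Nat.dvd_prime_pow Fact.out).1 h2
  exact IsPGroup.of_card (n := a) ha

theorem isSch_congr {X Y : Type*} [Group X] [Finite X] [Group Y] [Finite Y] (e : X ≃* Y)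
    (h : IsSch p X) : IsSch p Y := by
  refine ⟨fun hY => h.1 ((H22.hasNormalPComplement_congr e).2 hY), fun L hL => ?_⟩
  have hne : L.comap e.toMonoidHom ≠ ⊤ := fun ht => hL (by
    rw [← map_comap_eq_self_of_surjective (f := e.toMonoidHom) e.surjective L, ht,
      map_top_of_surjective _ e.surjective])
  exact (H22.hasNormalPComplement_congr
    ((e.subgroupMap (L.comap e.toMonoidHom)).trans (MulEquiv.subgroupCongr
      (map_comap_eq_self_of_surjective (f := e.toMonoidHom) e.surjective L)))).1 (h.2 _ hne)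

/-- Group structures on initial segments of `ℕ`. -/
def Cand (N : ℕ) : Type := Σ n : Fin N, Group (Fin (n : ℕ))

/-- The carrier of a candidate. -/
def Member {N : ℕ} (i : Cand N) : Type := Fin (i.1 : ℕ)

instance {N : ℕ} (i : Cand N) : Group (Member i) := i.2

instance {N : ℕ} (i : Cand N) : Finite (Member i) := inferInstanceAs (Finite (Fin (i.1 : ℕ)))

instance {N : ℕ} : Finite (Cand N) := by
  haveI : ∀ n : ℕ, Finite (Group (Fin n)) := fun n =>
    Finite.of_injective (fun g : Group (Fin n) => fun (a b : Fin n) => @HMul.hMul _ _ _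
      (@instHMul _ g.toDivInvMonoid.toMonoid.toMulOneClass.toMul) a b) fun g g' h => Group.ext h
  exact inferInstanceAs (Finite (Σ n : Fin N, Group (Fin (n : ℕ))))

/-- The universal group. -/
theorem exists_universal (hpq : p ≠ q) {r : ℕ} (hr : 1 ≤ r) :
    ∃ (G₀ : Type) (_ : Group G₀) (_ : Finite G₀), IsSch p G₀ ∧
      Nat.card G₀ = p ^ (orderOf (p : ZMod q) + frExp p q) * q ^ r ∧
      ∀ (X : Type u) [Group X] [Finite X], IsSch p X → (∃ t : ℕ, Nat.card X = p ^ t * q ^ r) →
        ∃ φ : G₀ →* X, Function.Surjective φ ∧ φ.ker ≤ center G₀ := by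
  classical
  set a := orderOf (p : ZMod q) with ha
  set K := GaloisField p a with hKdef
  have ha0 : 0 < a := orderOf_pos_of_ne hpq
  have hK : Nat.card K = p ^ a := GaloisField.card p a ha0.ne'
  have := Fintype.ofFinite K
  obtain ⟨ζ, hζo⟩ : ∃ ζ : Kˣ, orderOf ζ = q := exists_prime_orderOf_dvd_card' q (by
    rw [Nat.card_units, hK]; exact (dvd_pow_sub_one_iff a).2 dvd_rfl)
  have hζ : IsPrimitiveRoot (ζ : K) q := by
    rw [← hζo, ← orderOf_units]; exact IsPrimitiveRoot.orderOf _
  haveI : NeZero (q ^ r) := ⟨pow_ne_zero _ (Fact.out : q.Prime).ne_zero⟩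
  have hζN : (ζ : K) ^ q ^ r = 1 := by
    obtain ⟨c, hc⟩ := dvd_pow_self q (by omega : r ≠ 0)
    rw [hc, pow_mul, hζ.pow_eq_one, one_pow]
  let B := BGrp ζ (q ^ r) hζN
  have hBcard : Nat.card B = p ^ a * q ^ r := by
    rw [Nat.card_congr SemidirectProduct.equivProd, Nat.card_prod,
      Nat.card_congr Multiplicative.toAdd, Nat.card_congr Multiplicative.toAdd, hK, Nat.card_zmod]
  obtain ⟨⟨X₁, i₁, j₁, hX₁, hX₁c⟩, X₂, i₂, j₂, k, hX₂, hX₂c, hk⟩ := exists_large hK hpq ζ hζ hr
  have hker : ∀ {X : Type u} [Group X] [Finite X] (π : X →* B), Function.Surjective π →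
      Nat.card X = Nat.card B * Nat.card π.ker := by
    intro X _ _ π hπ
    rw [← card_mul_index π.ker, index_ker, MonoidHom.range_eq_top.2 hπ, card_top, mul_comm]
  have hB : IsSch p B := by
    obtain ⟨π, hπ, -, -, -⟩ := exists_projection hK hpq ζ hζ hr hζN hX₁ hX₁c
    exact isSch_congr (MulEquiv.ofBijective π
      (hπ.bijective_of_nat_card_le (le_of_eq (by rw [hX₁c, hBcard])))) hX₁
  -- the family
  set Bd := Nat.card B * p ^ frExp p q + 1 with hBd
  let I := {i : Cand Bd // ∃ π : Member i →* B, Function.Surjective π ∧ π.ker ≤ center (Member i) ∧ IsPGroup p π.ker}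
  have hI : ∀ i : I, ∃ π : Member i.1 →* B, Function.Surjective π ∧ π.ker ≤ center (Member i.1) ∧
      IsPGroup p π.ker := fun i => i.2
  choose π hπs hπc hπp using hI
  let Amb := ((i : I) → Member i.1) × B
  let Y : Subgroup Amb :=
    { carrier := {x | ∀ i, π i (x.1 i) = x.2}
      one_mem' := fun i => map_one (π i)
      mul_mem' := fun {x y} hx hy i => by
        show π i (x.1 i * y.1 i) = x.2 * y.2
        rw [map_mul, hx i, hy i]
      inv_mem' := fun {x} hx i => by
        show π i (x.1 i)⁻¹ = x.2⁻¹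
        rw [map_inv, hx i] }
  let snd : Amb →* B := MonoidHom.snd _ _
  have hYtop : Y.map snd = ⊤ := eq_top_iff.2 fun b _ => by
    choose f hf using fun i : I => hπs i b
    exact ⟨(f, b), hf, rfl⟩
  obtain ⟨G₀, ⟨hG₀Y, hG₀top⟩, hG₀min⟩ := Set.Finite.exists_minimal
    (s := {G : Subgroup Amb | G ≤ Y ∧ G.map snd = ⊤}) (Set.toFinite _) ⟨Y, le_rfl, hYtop⟩
  let ρ : G₀ →* B := snd.comp G₀.subtype
  have hρ : Function.Surjective ρ := fun b => by
    obtain ⟨x, hx, rfl⟩ := hG₀top.ge (mem_top b)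
    exact ⟨⟨x, hx⟩, rfl⟩
  have hρker : ∀ x ∈ ρ.ker, ∀ i : I, π i ((x : Amb).1 i) = 1 := fun x hx i =>
    (hG₀Y x.2 i).trans hx
  have hρc : ρ.ker ≤ center G₀ := by
    intro x hx
    rw [mem_center_iff]
    intro y
    refine Subtype.ext (Prod.ext (funext fun i => ?_) ?_)
    · exact mem_center_iff.1 (hπc i (hρker x hx i)) _
    · show (y : Amb).2 * (x : Amb).2 = (x : Amb).2 * (y : Amb).2
      rw [show (x : Amb).2 = 1 from hx, mul_one, one_mul]
  have hρp : IsPGroup p ρ.ker := by
    rintro ⟨x, hx⟩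
    have := Fintype.ofFinite I
    choose e he using fun i : I => hπp i ⟨_, hρker x hx i⟩
    refine ⟨Finset.univ.sup e, Subtype.ext (Subtype.ext (Prod.ext (funext fun i => ?_) ?_))⟩
    · obtain ⟨d, hd⟩ := pow_dvd_pow p (Finset.le_sup (f := e) (Finset.mem_univ i))
      show (x : Amb).1 i ^ p ^ Finset.univ.sup e = 1
      rw [hd, pow_mul, show ((x : Amb).1 i) ^ p ^ e i = 1 from congrArg Subtype.val (he i), one_pow]
    · show (x : Amb).2 ^ _ = 1
      rw [show (x : Amb).2 = 1 from hx, one_pow]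
  have hSch : IsSch p G₀ := by
    refine ⟨fun h => hB.1 (H22.hasNormalPComplement_of_surjective ρ hρ h), fun H hH => ?_⟩
    have hne : H.map ρ ≠ ⊤ := by
      intro ht
      apply hH
      have hle : G₀ ≤ H.map G₀.subtype := hG₀min ⟨(map_subtype_le H).trans hG₀Y,
        by rw [Subgroup.map_map]; exact ht⟩ (map_subtype_le H)
      refine eq_top_iff.2 fun x _ => ?_
      obtain ⟨y, hy, hyx⟩ := hle x.2
      rwa [show x = y from (Subtype.ext hyx).symm]
    refine npc_of_central_extension (ρ.subgroupMap H) (ρ.subgroupMap_surjective H) (fun x hx => ?_) ?_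
      (hB.2 _ hne)
    · rw [mem_center_iff]
      intro y
      have hxk : (x : G₀) ∈ ρ.ker := congrArg Subtype.val (hx : _ = _)
      exact Subtype.ext (mem_center_iff.1 (hρc hxk) _)
    · rintro ⟨x, hx⟩
      obtain ⟨n, hn⟩ := hρp ⟨(x : G₀), congrArg Subtype.val (hx : _ = _)⟩
      have hn' : (x : G₀) ^ p ^ n = 1 := congrArg Subtype.val hn
      exact ⟨n, Subtype.ext (Subtype.ext hn')⟩
  -- every candidate receives `G₀`
  have hrec : ∀ (X : Type u) [Group X] [Finite X], IsSch p X → (∃ t : ℕ, Nat.card X = p ^ t * q ^ r) →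
      ∃ φ : G₀ →* X, Function.Surjective φ ∧ φ.ker ≤ center G₀ := by
    intro X _ _ hX ⟨t, ht⟩
    obtain ⟨πX, hXs, hXc, hXp, hXb⟩ := exists_projection hK hpq ζ hζ hr hζN hX ht
    have hlt : Nat.card X < Bd := by
      rw [hker πX hXs, hBd]
      exact Nat.lt_succ_of_le (Nat.mul_le_mul_left _ hXb)
    let e : X ≃ Fin (Nat.card X) := Finite.equivFin X
    let c : Cand Bd := ⟨⟨Nat.card X, hlt⟩, e.symm.group⟩
    let eM : Member c ≃* X :=
      { toEquiv := (e.symm : Member c ≃ X)
        map_mul' := fun a b => (e.symm_apply_apply (e.symm a * e.symm b) :) }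
    let π' : Member c →* B := πX.comp eM.toMonoidHom
    have hc : ∃ π : Member c →* B, Function.Surjective π ∧ π.ker ≤ center (Member c) ∧ IsPGroup p π.ker := by
      refine ⟨π', hXs.comp eM.surjective, fun x hx => ?_, fun x => ?_⟩
      · rw [mem_center_iff]
        intro y
        apply eM.injective
        exact (map_mul eM y x).trans ((mem_center_iff.1 (hXc (show eM x ∈ πX.ker from hx)) _).trans
          (map_mul eM x y).symm)
      · obtain ⟨n, hn⟩ := hXp ⟨eM x.1, x.2⟩
        refine ⟨n, Subtype.ext (eM.injective ?_)⟩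
        show eM (x.1 ^ p ^ n) = eM 1
        rw [map_pow, map_one]
        exact congrArg Subtype.val hn
    let i : I := ⟨c, hc⟩
    let ev : G₀ →* Member c := ((Pi.evalMonoidHom (fun j : I => Member j.1) i).comp (MonoidHom.fst _ B)).comp G₀.subtype
    let φ : G₀ →* X := eM.toMonoidHom.comp ev
    have hev : ∀ x : G₀, π i (ev x) = ρ x := fun x => hG₀Y x.2 i
    refine ⟨φ, ?_, fun x hx => hρc ?_⟩
    · rw [← MonoidHom.range_eq_top]
      by_contra hne
      have hs : Function.Surjective (((π i).comp eM.symm.toMonoidHom).comp φ.range.subtype) := by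
        intro b
        obtain ⟨x, rfl⟩ := hρ b
        refine ⟨⟨φ x, x, rfl⟩, ?_⟩
        show π i (eM.symm (eM (ev x))) = ρ x
        rw [eM.symm_apply_apply]
        exact hev x
      exact hB.1 (H22.hasNormalPComplement_of_surjective _ hs (hX.2 _ hne))
    · have h1 : ev x = 1 := eM.injective ((hx : eM (ev x) = 1).trans (map_one eM).symm)
      rw [MonoidHom.mem_ker, ← hev, h1, map_one]
  have hcard : ∃ j, Nat.card G₀ = p ^ (a + j) * q ^ r := by
    obtain ⟨j, hj⟩ := hρp.exists_card_eq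
    refine ⟨j, ?_⟩
    rw [← card_mul_index ρ.ker, index_ker, MonoidHom.range_eq_top.2 hρ, card_top, hBcard, hj, pow_add]
    ring
  refine ⟨G₀, inferInstance, inferInstance, hSch, ?_, hrec⟩
  obtain ⟨j, hj⟩ := hcard
  obtain ⟨π₀, hπ₀, -, -, hπ₀b⟩ := exists_projection hK hpq ζ hζ hr hζN hSch hj
  refine le_antisymm ?_ ?_
  · rw [← card_mul_index π₀.ker, index_ker, MonoidHom.range_eq_top.2 hπ₀, card_top, hBcard, pow_add,
      mul_comm (p ^ a) (p ^ frExp p q), mul_assoc]
    exact Nat.mul_le_mul_right _ hπ₀b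
  · obtain ⟨φ, hφ, -⟩ := hrec (ULift.{u} X₂) (isSch_congr MulEquiv.ulift.symm hX₂)
      ⟨a + k, by rw [Nat.card_congr Equiv.ulift, hX₂c]⟩
    refine le_trans ?_ (Nat.card_le_card_of_surjective φ hφ)
    rw [Nat.card_congr Equiv.ulift, hX₂c, pow_add, pow_add]
    exact Nat.mul_le_mul_right _ (Nat.mul_le_mul_left _ hk)

end Cfsg.Agent.H91.Universal
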