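import Cfsg.Agent.H91.Universal.Common
import Cfsg.Agent.H91.Universal.Bound
import Cfsg.Agent.H91.Small.SchmidtAut
import Cfsg.Agent.H22.PResidual
import Cfsg.Agent.S0132

/-!
Every minimal non-`p`-nilpotent group with `q`-part `q ^ r` is a central extension of one group.
-/

set_option autoImplicit false
set_option maxHeartbeats 1000000

namespace Cfsg.Agent.H91.Universal

open Subgroup
open scoped commutatorElement

/-- Minimal non-`p`-nilpotent. -/
def IsSch (p : ℕ) (X : Type*) [Group X] : Prop :=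
  ¬ Cfsg.HasNormalPComplement p X ∧ ∀ K : Subgroup X, K ≠ ⊤ → Cfsg.HasNormalPComplement p ↥K

variable {p q : ℕ} [Fact p.Prime] [Fact q.Prime] {K : Type*} [Field K] [Finite K] [Algebra (ZMod p) K]

/-- An automorphism acting irreducibly with order `q`. -/
theorem exists_coord_mul (hK : Nat.card K = p ^ orderOf (p : ZMod q)) {ζ : K} (hζ : IsPrimitiveRoot ζ q)
    {M : Type*} [CommGroup M] [Finite M] [Nontrivial M] (hp : ∀ m : M, m ^ p = 1) (β : MulAut M)
    (hβ : ∀ m, (β ^ q) m = m) (hβ1 : ∃ m, β m ≠ m)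
    (hirr : ∀ S : Subgroup M, (∀ m ∈ S, β m ∈ S) → S = ⊥ ∨ S = ⊤) :
    ∃ (j : ℕ) (π : M →* Multiplicative K), Function.Bijective π ∧ ¬ q ∣ j ∧
      ∀ m, Multiplicative.toAdd (π (β m)) = ζ ^ j * Multiplicative.toAdd (π m) := by
  letI : Module (ZMod p) (Additive M) := AddCommGroup.zmodModule fun v => by
    obtain ⟨v, rfl⟩ := Additive.ofMul.surjective v
    rw [← ofMul_pow, hp, ofMul_one]
  let T : Additive M →+ Additive M := MonoidHom.toAdditive β.toMonoidHom
  have hTn : ∀ (n : ℕ) (m : M), T^[n] (Additive.ofMul m) = Additive.ofMul ((β ^ n) m) := by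
    intro n
    induction n with
    | zero => intro m; rfl
    | succ n ih =>
      intro m
      rw [Function.iterate_succ_apply', ih, pow_succ', MulAut.mul_apply]
      rfl
  obtain ⟨j, e, hj, he⟩ := exists_coord_hom p q hK hζ T
    (fun v => by
      obtain ⟨v, rfl⟩ := Additive.ofMul.surjective v
      rw [hTn, hβ])
    (by
      obtain ⟨m, hm⟩ := hβ1
      exact ⟨Additive.ofMul m, fun h => hm (Additive.ofMul.injective h)⟩)
    fun W hW => by
      let S : Subgroup M :=
        { carrier := {m | Additive.ofMul m ∈ W}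
          one_mem' := W.zero_mem
          mul_mem' := fun ha hb => W.add_mem ha hb
          inv_mem' := fun ha => W.neg_mem ha }
      rcases hirr S (fun m hm => hW (Additive.ofMul m) hm) with h | h
      · exact Or.inl ((AddSubgroup.eq_bot_iff_forall W).2 fun w hw => by
          have h1 : Additive.toMul w ∈ S := hw
          rw [h] at h1
          exact congrArg Additive.ofMul ((Subgroup.mem_bot (G := M)).1 h1))
      · exact Or.inr (eq_top_iff.2 fun w _ =>
          (show Additive.toMul w ∈ S from h ▸ Subgroup.mem_top _))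
  exact ⟨j, AddMonoidHom.toMultiplicativeRight e.toAddMonoidHom, e.bijective, hj,
    fun m => he (Additive.ofMul m)⟩

/-- The generating data of a minimal non-`p`-nilpotent group. -/
theorem exists_generator {X : Type*} [Group X] [Finite X] (hpq : p ≠ q) (hX : IsSch p X) {t r : ℕ}
    (hr : 1 ≤ r) (hc : Nat.card X = p ^ t * q ^ r) :
    ∃ (P : Subgroup X) (_ : P.Normal) (y : X), IsPGroup p P ∧ Nat.card P * q ^ r = Nat.card X ∧
      orderOf y = q ^ r ∧ P ⊔ zpowers y = ⊤ ∧ Disjoint P (zpowers y) ∧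
      Schmidt.AutData p (MulAut.conjNormal (H := P) y) q := by
  obtain ⟨hnil, -, hnorm⟩ := S0132.result hX.1 hX.2
  obtain ⟨P⟩ : Nonempty (Sylow p X) := inferInstance
  haveI := hnorm P
  have hco : ∀ a b : ℕ, (p ^ a).Coprime (q ^ b) := fun a b =>
    Nat.Coprime.pow a b ((Nat.coprime_primes Fact.out Fact.out).2 hpq)
  obtain ⟨k, hk⟩ := P.2.exists_card_eq
  have hidx : (P : Subgroup X).index = q ^ r := by
    have h := card_mul_index (P : Subgroup X)
    rw [hk, hc] at h
    have h1 : p ^ k ∣ p ^ t := (hco k r).dvd_of_dvd_mul_right (h ▸ dvd_mul_right _ _)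
    have hcop : (p ^ t).Coprime (P : Subgroup X).index :=
      Nat.Coprime.pow_left t ((Nat.Prime.coprime_iff_not_dvd Fact.out).2 P.not_dvd_index)
    have h2 : p ^ t ∣ p ^ k := hcop.dvd_of_dvd_mul_right (h ▸ dvd_mul_right _ _)
    rw [Nat.dvd_antisymm h1 h2] at h
    exact Nat.eq_of_mul_eq_mul_left (pow_pos (Fact.out : p.Prime).pos t) h
  have hPq : ∀ (a : ℕ) (u g : X), u ∈ (P : Subgroup X) → g ^ q ^ a = 1 → (orderOf u).Coprime (orderOf g) := by
    intro a u g hu hg
    refine Nat.Coprime.coprime_dvd_right (orderOf_dvd_of_pow_eq_one hg)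
      (Nat.Coprime.coprime_dvd_left ?_ (hco k a))
    rw [← hk]
    exact orderOf_dvd_natCard _ hu
  have hcommH : ∀ H : Subgroup X, H ≠ ⊤ → ∀ (a : ℕ) (u g : X), u ∈ (P : Subgroup X) → u ∈ H → g ∈ H →
      g ^ q ^ a = 1 → u * g = g * u := by
    intro H hH a u g hu huH hgH hg
    exact congrArg Subtype.val (H55.commute_of_coprime_orderOf (a := (⟨u, huH⟩ : H)) (b := ⟨g, hgH⟩)
      (hnil H hH) (by rw [orderOf_mk, orderOf_mk]; exact hPq a u g hu hg)).eq
  have hgen : ∀ g : X, (P : Subgroup X) ⊔ zpowers g = ⊤ → q ^ r ∣ orderOf g := by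
    intro g hg
    rw [← hidx, ← Nat.card_zpowers, index_eq_card, ← card_top]
    have h := congrArg (Subgroup.map (QuotientGroup.mk' (P : Subgroup X))) hg
    rw [Subgroup.map_sup, QuotientGroup.map_mk'_self, bot_sup_eq,
      Subgroup.map_top_of_surjective _ (QuotientGroup.mk'_surjective _)] at h
    rw [← h]
    exact card_map_dvd _ _
  obtain ⟨g, ⟨a, hga⟩, hg⟩ : ∃ g : X, (∃ a, g ^ q ^ a = 1) ∧ (P : Subgroup X) ⊔ zpowers g = ⊤ := by
    by_contra hno
    push Not at hno
    refine hX.1 ?_
    obtain ⟨Q⟩ : Nonempty (Sylow q X) := inferInstance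
    have hQc : (Q : Subgroup X) ≤ centralizer ((P : Subgroup X) : Set X) := fun g hg => by
      obtain ⟨a, ha⟩ := Q.2 ⟨g, hg⟩
      have ha' : g ^ q ^ a = 1 := congrArg Subtype.val ha
      exact mem_centralizer_iff.2 fun u hu => hcommH _ (hno g ⟨a, ha'⟩) a u g hu (mem_sup_left hu)
        (mem_sup_right (mem_zpowers g)) ha'
    have hsup : (P : Subgroup X) ⊔ Q = ⊤ := by
      obtain ⟨b, hb⟩ := Q.2.exists_card_eq
      apply eq_top_of_card_eq
      refine Nat.dvd_antisymm (card_subgroup_dvd_card _) ?_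
      have h1 : Nat.card (P : Subgroup X) * Nat.card (Q : Subgroup X) ∣
          Nat.card ((P : Subgroup X) ⊔ Q : Subgroup X) := by
        rw [hk, hb]
        exact (hco k b).mul_dvd_of_dvd_of_dvd (hk ▸ card_dvd_of_le le_sup_left)
          (hb ▸ card_dvd_of_le le_sup_right)
      refine dvd_trans ?_ h1
      rw [← card_mul_index (P : Subgroup X), hidx]
      refine Nat.mul_dvd_mul_left _ ?_
      have h2 := card_mul_index (Q : Subgroup X)
      have hcop : (q ^ r).Coprime (Q : Subgroup X).index :=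
        Nat.Coprime.pow_left r ((Nat.Prime.coprime_iff_not_dvd Fact.out).2 Q.not_dvd_index)
      refine hcop.dvd_of_dvd_mul_right ?_
      rw [h2, hc]
      exact dvd_mul_left _ _
    have hQn : (Q : Subgroup X).Normal := by
      rw [← normalizer_eq_top_iff, eq_top_iff, ← hsup]
      exact sup_le (fun u hu => centralizer_le_normalizer _ (mem_centralizer_iff.2 fun g hg =>
        (mem_centralizer_iff.1 (hQc hg) u hu).symm)) le_normalizer
    obtain ⟨b, hb⟩ := Q.2.exists_card_eq
    refine H22.hasNormalPComplement_of_normal (Q : Subgroup X) ?_ ?_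
    · rw [hb]
      exact fun h => hpq ((Nat.prime_dvd_prime_iff_eq Fact.out Fact.out).1
        ((Fact.out : p.Prime).dvd_of_dvd_pow h))
    · refine P.2.of_surjective ((QuotientGroup.mk' (Q : Subgroup X)).comp (P : Subgroup X).subtype) ?_
      rw [← MonoidHom.range_eq_top, MonoidHom.range_comp, range_subtype]
      have h := congrArg (Subgroup.map (QuotientGroup.mk' (Q : Subgroup X))) hsup
      rwa [Subgroup.map_sup, QuotientGroup.map_mk'_self, sup_bot_eq,
        Subgroup.map_top_of_surjective _ (QuotientGroup.mk'_surjective _)] at h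
  have hord : orderOf g = q ^ r := by
    refine Nat.dvd_antisymm ?_ (hgen g hg)
    obtain ⟨i, -, hi⟩ := (Nat.dvd_prime_pow Fact.out).1 (orderOf_dvd_of_pow_eq_one hga)
    rw [hi]
    exact ((hco t i).symm).dvd_of_dvd_mul_left (hi ▸ hc ▸ orderOf_dvd_natCard g)
  have hdisj : Disjoint (P : Subgroup X) (zpowers g) := by
    rw [disjoint_def]
    intro u hu hu'
    exact orderOf_eq_one_iff.1 ((Nat.coprime_self _).1 (hPq a u u hu (by
      obtain ⟨i, rfl⟩ := mem_zpowers_iff.1 hu'
      rw [← zpow_natCast, ← zpow_mul, mul_comm, zpow_mul, zpow_natCast, hga, one_zpow])))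
  refine ⟨P, inferInstance, g, P.2, by rw [← hidx, card_mul_index], hord, hg, hdisj, ?_⟩
  refine ⟨Fact.out, hpq.symm, ?_, ?_, ?_⟩
  · have hne : (P : Subgroup X) ⊔ zpowers (g ^ q) ≠ ⊤ := by
      intro h
      have h1 := hgen _ h
      rw [orderOf_pow_of_dvd (Fact.out : q.Prime).ne_zero (hord ▸ dvd_pow_self q (by omega)), hord] at h1
      have h2 := Nat.le_of_dvd (Nat.div_pos (Nat.le_of_dvd (pow_pos (Fact.out : q.Prime).pos r)
        (dvd_pow_self q (by omega))) (Fact.out : q.Prime).pos) h1
      exact (Nat.div_lt_self (pow_pos (Fact.out : q.Prime).pos r) (Fact.out : q.Prime).one_lt).not_ge h2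
    refine MulEquiv.ext fun u => Subtype.ext ?_
    rw [← map_pow, MulAut.conjNormal_apply]
    refine mul_inv_eq_iff_eq_mul.2 (hcommH _ hne a u _ u.2 (mem_sup_left u.2)
      (mem_sup_right (mem_zpowers _)) ?_).symm
    rw [← pow_mul, mul_comm, pow_mul, hga, one_pow]
  · intro h
    refine hX.1 ?_
    have hcent : ∀ u ∈ (P : Subgroup X), Commute g u := fun u hu => by
      have := congrArg Subtype.val (DFunLike.congr_fun h ⟨u, hu⟩)
      rw [MulAut.conjNormal_apply] at this
      exact mul_inv_eq_iff_eq_mul.1 this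
    have hgn : (zpowers g).Normal := by
      rw [← normalizer_eq_top_iff, eq_top_iff, ← hg]
      exact sup_le (fun u hu => centralizer_le_normalizer _ (mem_centralizer_iff.2 fun z hz => by
        obtain ⟨i, rfl⟩ := mem_zpowers_iff.1 hz
        exact ((hcent u hu).zpow_left i).eq)) le_normalizer
    refine H22.hasNormalPComplement_of_normal (zpowers g) ?_ ?_
    · rw [Nat.card_zpowers, hord]
      exact fun h => hpq ((Nat.prime_dvd_prime_iff_eq Fact.out Fact.out).1
        ((Fact.out : p.Prime).dvd_of_dvd_pow h))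
    · refine P.2.of_surjective ((QuotientGroup.mk' (zpowers g)).comp (P : Subgroup X).subtype) ?_
      rw [← MonoidHom.range_eq_top, MonoidHom.range_comp, range_subtype]
      have h := congrArg (Subgroup.map (QuotientGroup.mk' (zpowers g))) hg
      rwa [Subgroup.map_sup, QuotientGroup.map_mk'_self, sup_bot_eq,
        Subgroup.map_top_of_surjective _ (QuotientGroup.mk'_surjective _)] at h
  · intro R hR hRne x hx
    let R' : Subgroup X := R.map (P : Subgroup X).subtype
    have hnorm' : g ∈ normalizer (R' : Set X) := by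
      rw [mem_normalizer_iff_map_conj_eq]
      refine eq_of_le_of_card_ge ?_ (card_map_of_injective (MulAut.conj g).injective).ge
      rintro _ ⟨_, ⟨u, hu, rfl⟩, rfl⟩
      exact ⟨_, hR u hu, MulAut.conjNormal_apply _ _⟩
    have hH : R' ⊔ zpowers g ≠ ⊤ := by
      intro ht
      apply hRne
      refine eq_top_iff.2 fun u _ => ?_
      have h1 : (u : X) ∈ ((R' ⊔ zpowers g : Subgroup X) : Set X) := by
        rw [ht]; exact mem_top _
      rw [coe_mul_of_right_le_normalizer_left _ _ (zpowers_le.2 hnorm')] at h1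
      obtain ⟨w', ⟨w, hw, rfl⟩, v, hv, hwv⟩ := Set.mem_mul.1 h1
      have hv1 : v = 1 := by
        refine disjoint_def.1 hdisj ?_ hv
        rw [show v = ((w : X))⁻¹ * u from eq_inv_mul_of_mul_eq hwv]
        exact mul_mem (inv_mem w.2) u.2
      rw [hv1, mul_one] at hwv
      rw [← show w = u from Subtype.ext hwv]
      exact hw
    refine Subtype.ext ?_
    rw [MulAut.conjNormal_apply]
    exact mul_inv_eq_iff_eq_mul.2 (hcommH _ hH a x g x.2 (mem_sup_left ⟨x, hx, rfl⟩)
      (mem_sup_right (mem_zpowers g)) hga).symm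

/-- Coordinates of an operator on its Frattini quotient. -/
theorem exists_coord_frattini (hK : Nat.card K = p ^ orderOf (p : ZMod q)) {ζ : K}
    (hζ : IsPrimitiveRoot ζ q) {P : Type*} [Group P] [Finite P] (hP : IsPGroup p P) {α : MulAut P}
    (hα : Schmidt.AutData p α q) :
    ∃ (j : ℕ) (π : P →* Multiplicative K), Function.Surjective π ∧ π.ker = frattini P ∧ ¬ q ∣ j ∧
      frattini P ≤ center P ∧ (∀ z ∈ frattini P, α z = z) ∧
      ∀ u, Multiplicative.toAdd (π (α u)) = ζ ^ j * Multiplicative.toAdd (π u) := by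
  haveI : Nontrivial P := by
    rcases subsingleton_or_nontrivial P with h | h
    · exact absurd (MulEquiv.ext fun u => Subsingleton.elim _ _) hα.ne_one
    · exact h
  have hΦc := hα.frattini_le_center hP
  have hΦmap : (frattini P).map α.toMonoidHom = frattini P :=
    characteristic_iff_map_eq.1 (frattini_characteristic (G := P)) α
  have hΦne : frattini P ≠ ⊤ := fun ht => bot_ne_top
    (frattini_nongenerating (show ⊥ ⊔ frattini P = ⊤ by rw [ht]; simp))
  have hΦinv : ∀ x ∈ frattini P, α x ∈ frattini P := fun x hx => hΦmap ▸ ⟨x, hx, rfl⟩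
  have hΦfix := hα.fix _ hΦinv hΦne
  letI hMc : CommGroup (P ⧸ frattini P) :=
    { (inferInstance : Group (P ⧸ frattini P)) with
      mul_comm := fun a b => by
        induction a using QuotientGroup.induction_on with
        | _ a =>
          induction b using QuotientGroup.induction_on with
          | _ b =>
            rw [← QuotientGroup.mk_mul, ← QuotientGroup.mk_mul, QuotientGroup.eq]
            have h := H24.commutator_le_frattini hP (commutator_mem_commutator (mem_top b⁻¹)
              (mem_top a⁻¹))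
            simpa [commutatorElement_def, mul_assoc] using h }
  set β : MulAut (P ⧸ frattini P) := QuotientGroup.congr _ _ α hΦmap with hβ
  have hβn : ∀ (n : ℕ) (u : P), (β ^ n) (u : P ⧸ frattini P) = (((α ^ n) u : P) : P ⧸ frattini P) := by
    intro n
    induction n with
    | zero => intro u; rfl
    | succ n ih => intro u; rw [pow_succ', MulAut.mul_apply, ih, pow_succ', MulAut.mul_apply]; rfl
  haveI : Nontrivial (P ⧸ frattini P) := QuotientGroup.nontrivial_iff.2 hΦne
  -- every proper invariant subgroup of the quotient is fixed pointwise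
  have hfixS : ∀ S : Subgroup (P ⧸ frattini P), (∀ m ∈ S, β m ∈ S) → S ≠ ⊤ → ∀ m ∈ S, β m = m := by
    intro S hS hne m hm
    obtain ⟨u, rfl⟩ := QuotientGroup.mk_surjective m
    have hR : S.comap (QuotientGroup.mk' _) ≠ ⊤ := fun h => hne (by
      rw [← map_comap_eq_self_of_surjective (QuotientGroup.mk'_surjective _) S, h,
        map_top_of_surjective _ (QuotientGroup.mk'_surjective _)])
    exact congrArg ((↑) : P → P ⧸ frattini P) (hα.fix _ (fun x hx => hS _ hx) hR u hm)
  let δ : (P ⧸ frattini P) →* (P ⧸ frattini P) :=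
    { toFun := fun m => m⁻¹ * β m
      map_one' := by simp
      map_mul' := fun m m' => by rw [map_mul, mul_inv]; exact mul_mul_mul_comm _ _ _ _ }
  have hδ : Function.Surjective δ := by
    rw [← MonoidHom.range_eq_top]
    by_contra hne
    apply hα.ne_one
    refine MulEquiv.ext fun u => ?_
    have hmem : ((u⁻¹ * α u : P) : P ⧸ frattini P) ∈ δ.range := ⟨(u : P ⧸ frattini P), rfl⟩
    have hR : δ.range.comap (QuotientGroup.mk' _) ≠ ⊤ := fun h => hne (by
      rw [← map_comap_eq_self_of_surjective (QuotientGroup.mk'_surjective _) δ.range, h,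
        map_top_of_surjective _ (QuotientGroup.mk'_surjective _)])
    have hd := hα.fix _ (fun x hx => by
      obtain ⟨w, hw⟩ := hx
      refine ⟨β w, ?_⟩
      show (β w)⁻¹ * β (β w) = ((α x : P) : P ⧸ frattini P)
      rw [← map_inv, ← map_mul]
      exact congrArg β hw) hR _ hmem
    have := hα.eq_one_of_shift hP (g := u) (d := u⁻¹ * α u) (mul_inv_cancel_left u (α u)).symm hd
    exact (inv_mul_eq_one.1 this).symm
  have hnofix : ∀ m, β m = m → m = 1 := fun m hm =>
    (Finite.injective_iff_surjective.2 hδ) (show δ m = δ 1 by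
      show m⁻¹ * β m = 1⁻¹ * β 1
      rw [hm, map_one, inv_mul_cancel, inv_one, one_mul])
  obtain ⟨j, π₁, hπ₁, hj, hπ₁α⟩ := exists_coord_mul hK hζ (fun m => by
      obtain ⟨u, rfl⟩ := QuotientGroup.mk_surjective m
      rw [← QuotientGroup.mk_pow, QuotientGroup.eq_one_iff]
      exact H24.pow_mem_frattini hP u) β (fun m => by
      obtain ⟨u, rfl⟩ := QuotientGroup.mk_surjective m
      rw [hβn, hα.pow_eq]; rfl) (by
      obtain ⟨m, hm⟩ := exists_ne (1 : P ⧸ frattini P)
      exact ⟨m, fun h => hm (hnofix m h)⟩) fun S hS => by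
    by_cases hne : S = ⊤
    · exact Or.inr hne
    · exact Or.inl ((eq_bot_iff_forall S).2 fun m hm => hnofix m (hfixS S hS hne m hm))
  refine ⟨j, π₁.comp (QuotientGroup.mk' _), hπ₁.2.comp (QuotientGroup.mk'_surjective _), ?_, hj, hΦc,
    hΦfix, fun u => hπ₁α (u : P ⧸ frattini P)⟩
  rw [← MonoidHom.comap_ker, (MonoidHom.ker_eq_bot_iff π₁).2 hπ₁.1, MonoidHom.comap_bot,
    QuotientGroup.ker_mk']

/-- Every minimal non-`p`-nilpotent group with `q`-part `q ^ r` is a central extension of `BGrp`. -/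
theorem exists_projection (hK : Nat.card K = p ^ orderOf (p : ZMod q)) (hpq : p ≠ q) (ζ : Kˣ)
    (hζ : IsPrimitiveRoot (ζ : K) q) {r : ℕ} (hr : 1 ≤ r) [NeZero (q ^ r)]
    (hζN : (ζ : K) ^ q ^ r = 1) {X : Type*} [Group X] [Finite X] (hX : IsSch p X) {t : ℕ}
    (hc : Nat.card X = p ^ t * q ^ r) :
    ∃ π : X →* BGrp ζ (q ^ r) hζN, Function.Surjective π ∧ π.ker ≤ center X ∧ IsPGroup p π.ker ∧
      Nat.card π.ker ≤
        p ^ (if orderOf (p : ZMod q) % 2 = 1 then 0 else orderOf (p : ZMod q) / 2) := by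
  obtain ⟨P, hPn, g, hPp, hPc, hord, hsup, hdisj, hα⟩ := exists_generator hpq hX hr hc
  obtain ⟨j, π₀, hπs, hker, hj, hΦc, hΦfix, hπα⟩ := exists_coord_frattini hK hζ hPp hα
  -- normalise the generator
  obtain ⟨k, hk⟩ : ∃ k : ℕ, k * j ≡ 1 [MOD q] := by
    obtain ⟨k, -, hk⟩ := Nat.exists_mul_mod_eq_one_of_coprime
      (((Nat.Prime.coprime_iff_not_dvd Fact.out).2 hj).symm) (Fact.out : q.Prime).one_lt
    exact ⟨k, by rw [mul_comm]; rw [Nat.ModEq, hk, Nat.mod_eq_of_lt (Fact.out : q.Prime).one_lt]⟩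
  have hkq : ¬ q ∣ k := fun h => (Fact.out : q.Prime).not_dvd_one
    ((Nat.ModEq.dvd_iff hk dvd_rfl).1 (h.mul_right j))
  set y := g ^ k with hy
  have hyo : orderOf y = q ^ r := by
    rw [hy, Nat.Coprime.orderOf_pow, hord]
    rw [hord]
    exact Nat.Coprime.pow_left r ((Nat.Prime.coprime_iff_not_dvd Fact.out).2 hkq)
  have hyz : zpowers y = zpowers g := eq_of_le_of_card_ge (zpowers_le.2 (pow_mem (mem_zpowers g) k))
    (by rw [Nat.card_zpowers, Nat.card_zpowers, hyo, hord])
  set α := MulAut.conjNormal (H := P) g with hαdef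
  have hπn : ∀ (n : ℕ) u, Multiplicative.toAdd (π₀ ((α ^ n) u)) =
      (ζ : K) ^ (n * j) * Multiplicative.toAdd (π₀ u) := by
    intro n
    induction n with
    | zero => intro u; simp
    | succ n ih =>
      intro u
      rw [pow_succ', MulAut.mul_apply, hπα, ih, ← mul_assoc, ← pow_add]
      congr 2
      ring
  have hζkj : (ζ : K) ^ (k * j) = ζ := by
    rw [← Nat.div_add_mod (k * j) q, show k * j % q = 1 from Eq.trans (hk : k * j % q = 1 % q) (Nat.mod_eq_of_lt (Fact.out : q.Prime).one_lt),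
      pow_succ, pow_mul, hζ.pow_eq_one, one_pow, one_mul]
  have hπy : ∀ u, Multiplicative.toAdd (π₀ ((α ^ k) u)) = (ζ : K) * Multiplicative.toAdd (π₀ u) := by
    intro u
    rw [hπn, hζkj]
  have hαy : MulAut.conjNormal (H := P) y = α ^ k := map_pow _ _ _
  have hbound : Nat.card (frattini P) ≤
      p ^ (if orderOf (p : ZMod q) % 2 = 1 then 0 else orderOf (p : ZMod q) / 2) :=
    card_frattini_le hK hpq hζ hPp (α ^ k) π₀ hπs hker hΦc (fun z hz => by
      have : ∀ n : ℕ, (α ^ n) z = z := by
        intro n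
        induction n with
        | zero => rfl
        | succ n ih => rw [pow_succ', MulAut.mul_apply, ih, hΦfix z hz]
      exact this k) hπy
  have hyN : y ^ q ^ r = 1 := hyo ▸ pow_orderOf_eq_one y
  have hαN : MulAut.conjNormal (H := P) y ^ q ^ r = 1 := by rw [← map_pow, hyN, map_one]
  set φ₁ := cycHom (MulAut.conjNormal (H := P) y) (q ^ r) hαN with hφ₁
  let μ : ↥P ⋊[φ₁] Multiplicative (ZMod (q ^ r)) →* X :=
    SemidirectProduct.lift P.subtype (cycHom y (q ^ r) hyN) fun i => by
      ext u
      show ((MulAut.conjNormal (H := P) y ^ (Multiplicative.toAdd i).val) u : X) =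
        y ^ (Multiplicative.toAdd i).val * u * (y ^ (Multiplicative.toAdd i).val)⁻¹
      rw [← map_pow, MulAut.conjNormal_apply]
  have hμs : Function.Surjective μ := by
    rw [← MonoidHom.range_eq_top, eq_top_iff, ← hsup, ← hyz]
    refine sup_le (fun u hu => ⟨SemidirectProduct.inl ⟨u, hu⟩, by simp [μ]⟩) (zpowers_le.2 ?_)
    refine ⟨SemidirectProduct.inr (Multiplicative.ofAdd 1), ?_⟩
    have hq1 : 1 < q ^ r := Nat.one_lt_pow (by omega) (Fact.out : q.Prime).one_lt
    simp only [μ, SemidirectProduct.lift_inr]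
    exact cycHom_gen y _ hyN hq1
  have hμb : Function.Bijective μ := by
    refine hμs.bijective_of_nat_card_le (le_of_eq ?_)
    rw [Nat.card_congr SemidirectProduct.equivProd, Nat.card_prod,
      Nat.card_congr Multiplicative.toAdd, Nat.card_zmod, hPc]
  set eμ := MulEquiv.ofBijective μ hμb with heμ
  let ρ : ↥P ⋊[φ₁] Multiplicative (ZMod (q ^ r)) →* BGrp ζ (q ^ r) hζN :=
    SemidirectProduct.map π₀ (MonoidHom.id _) fun i => by
      ext u
      apply Multiplicative.toAdd.injective
      show Multiplicative.toAdd (π₀ ((MulAut.conjNormal (H := P) y ^ (Multiplicative.toAdd i).val) u)) =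
        Multiplicative.toAdd ((mulAut ζ ^ (Multiplicative.toAdd i).val) (π₀ u))
      rw [mulAut_pow_apply, hαy, ← pow_mul, hπn, mul_comm k, mul_assoc _ k, pow_mul' _ _ (k * j), hζkj]
  refine ⟨ρ.comp eμ.symm.toMonoidHom, ?_, ?_⟩
  · intro b
    obtain ⟨u, hu⟩ := hπs b.left
    refine ⟨eμ ⟨u, b.right⟩, ?_⟩
    simp only [MonoidHom.comp_apply, MulEquiv.coe_toMonoidHom, MulEquiv.symm_apply_apply]
    exact SemidirectProduct.ext hu rfl
  have hkereq : (ρ.comp eμ.symm.toMonoidHom).ker = (frattini P).map P.subtype := by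
    ext x
    obtain ⟨⟨u, i⟩, rfl⟩ := eμ.surjective x
    rw [MonoidHom.mem_ker]
    simp only [MonoidHom.comp_apply, MulEquiv.coe_toMonoidHom, MulEquiv.symm_apply_apply]
    constructor
    · intro h
      have h1 : π₀ u = 1 := congrArg SemidirectProduct.left h
      have h2 : i = 1 := congrArg SemidirectProduct.right h
      subst h2
      refine ⟨u, hker ▸ MonoidHom.mem_ker.2 h1, ?_⟩
      show (u : X) = (u : X) * cycHom y (q ^ r) hyN 1
      rw [map_one, mul_one]
    · rintro ⟨w, hw, hwx⟩
      have h0 : (SemidirectProduct.inl w : ↥P ⋊[φ₁] Multiplicative (ZMod (q ^ r))) = ⟨u, i⟩ := by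
        apply eμ.injective
        rw [← hwx]
        simp [eμ, μ]
      rw [← h0]
      refine SemidirectProduct.ext ?_ rfl
      show π₀ w = 1
      rw [← MonoidHom.mem_ker, hker]
      exact hw
  rw [hkereq]
  refine ⟨?_, (hPp.to_subgroup _).map _, by rw [card_map_of_injective P.subtype_injective]; exact hbound⟩
  rintro _ ⟨z, hz, rfl⟩
  rw [mem_center_iff]
  intro x
  have hmem : x ∈ centralizer ({(z : X)} : Set X) := by
    have : P ⊔ zpowers g ≤ centralizer ({(z : X)} : Set X) := by
      refine sup_le (fun u hu => mem_centralizer_singleton_iff.2 ?_) (zpowers_le.2 ?_)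
      · exact congrArg Subtype.val (mem_center_iff.1 (hΦc hz) ⟨u, hu⟩)
      · have h := congrArg Subtype.val (hΦfix z hz)
        rw [MulAut.conjNormal_apply] at h
        exact mem_centralizer_singleton_iff.2 (mul_inv_eq_iff_eq_mul.1 h)
    exact this (hsup ▸ mem_top x)
  exact mem_centralizer_singleton_iff.1 hmem

end Cfsg.Agent.H91.Universal
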